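import Cfsg.Agent.ThreeTrans.PrimeM22
import Cfsg.Agent.ThreeTrans.UnitaryThree

/-!
# The unitary model of a layer in type M(22), and four-chains perpendicular to a hyperbolic pair
-/

set_option autoImplicit false

open Cfsg Cfsg.Agent.Classical Cfsg.Agent.Classical.Herm Module

namespace Cfsg.Agent.ThreeTrans

/-- A set isomorphic to a set with a unitary model has one. -/
theorem SetIso.model {G K : Type*} [Group G] [Group K] {S : Set G} {T : Set K} {φ : G → K}
    (h : SetIso S T φ) (hS : ClosedSet S) {F V : Type*} [Field F] [AddCommGroup V] [Module F V]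
    {θ : F →+* F} {B : V →ₛₗ[θ] V →ₗ[F] F} {tp : UModel.Pt B → K} (hM : UModel.Model B T tp) :
    ∃ tp' : UModel.Pt B → G, UModel.Model B S tp' := by
  classical
  set ψ := Function.invFunOn φ S
  have hψ : ∀ v, ψ (tp v) ∈ S ∧ φ (ψ (tp v)) = tp v := fun v =>
    ⟨Function.invFunOn_mem (h.bij.surjOn (UModel.tp_mem hM v)),
      Function.invFunOn_eq (h.bij.surjOn (UModel.tp_mem hM v))⟩
  refine ⟨fun v => ψ (tp v), hS, ?_, fun v w => ⟨fun e => ?_, fun e => ?_⟩, fun v w => ?_,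
    fun v w u hu => ?_⟩
  · apply Set.ext
    intro g
    constructor
    · intro hg
      obtain ⟨v, hv⟩ := UModel.exists_tp hM (h.bij.mapsTo hg)
      exact ⟨v, h.bij.injOn (hψ v).1 hg (by rw [(hψ v).2, hv])⟩
    · rintro ⟨v, rfl⟩
      exact (hψ v).1
  · have e' := congrArg φ e
    simp only [(hψ v).2, (hψ w).2] at e'
    exact (hM.eq_iff v w).1 e'
  · exact congrArg ψ ((hM.eq_iff v w).2 e)
  · rw [← h.comm _ (hψ v).1 _ (hψ w).1, (hψ v).2, (hψ w).2]
    exact hM.comm_iff v w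
  · refine h.bij.injOn (hS.conj _ (hψ v).1 _ (hψ w).1) (hψ u).1 ?_
    rw [h.conj _ (hψ v).1 _ (hψ w).1, (hψ v).2, (hψ w).2, (hψ u).2]
    exact hM.conj v w u hu

/-- Every layer in type M(22) has a unitary model. -/
theorem layer_model {G : Type*} [Group G] [Finite G] {D : Set G} (hD : IsThreeTranspositionGroup D)
    (h22 : IsOfTypeM22 G D) :
    ∃ (F : Type) (_ : Field F) (θ : F →+* F), Nat.card F = 4 ∧ UModel.Space (hermB 6 θ) ∧
      ∀ a ∈ D, ∃ tp : UModel.Pt (hermB 6 θ) → G, UModel.Model (hermB 6 θ) (dperp D a) tp := by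
  have e1 : D \ {1} = D := Set.sdiff_singleton_eq_self fun h1 => ne_one hD.1 h1 rfl
  obtain ⟨⟨hcls, -, hN⟩, -, -⟩ := layerData_of_M22 (D₀ := D) (by rwa [e1]) h22
  rw [e1] at hcls hN
  obtain ⟨-, d, hd, c, -, hdc, ⟨F, hFld, hFt, hF, ⟨e⟩⟩, -, -, -⟩ := h22
  set H := Subgroup.closure {y : G | y ∈ D ∧ y ≠ d ∧ Commute d y}
  have hH : H = Subgroup.closure (dperp D d) := rfl
  have hcard : 2 ^ 15 ∣ Nat.card (H ⧸ Subgroup.center H) := by
    rw [Nat.card_congr e.toEquiv]
    exact two_pow_dvd_psu hF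
  have : IsSimpleGroup (H ⧸ Subgroup.center H) :=
    (MulEquiv.isSimpleGroup_congr e).2 (Cfsg.Agent.S0283.result
      (by rw [hF]; norm_num : Fintype.card F = 2 ^ 2) 6 (by norm_num) (by norm_num))
  have hgrp := lowImage_group hD hH
  have hG := good_of_simple (not_isMulCommutative_of_two_pow_dvd hgrp hcard) hgrp
  obtain ⟨q, hq, -⟩ := hG.2.1
  obtain ⟨θ, tp, hB, hM⟩ := psu_model hF e hgrp ⟨q, hq⟩
  refine ⟨F, hFld, θ, by rw [Nat.card_eq_fintype_card, hF], hB, fun a ha => ?_⟩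
  obtain ⟨φ, hφ⟩ := exists_layer_iso hD hd hH hcls hG hN ha
  exact hφ.model ((closedSet_of_group hD).dperp a) hM

namespace UModel

variable {F V : Type*} [Field F] [AddCommGroup V] [Module F V] {θ : F →+* F}
  {B : V →ₛₗ[θ] V →ₗ[F] F} (hB : Space B)
include hB

theorem exists_four_chain (hF : Nat.card F = 4) (e f : Pt B) (hef : B e.1 f.1 ≠ 0) :
    ∃ q : Fin 4 → Pt B, (∀ i, B e.1 (q i).1 = 0 ∧ B f.1 (q i).1 = 0) ∧
      ∀ i j : Fin 4, (B (q i).1 (q j).1 = 0 ↔ ¬ (i.val + 1 = j.val ∨ j.val + 1 = i.val)) := by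
  obtain ⟨R, hR⟩ := exists_res_with hB e (f := (B e.1 f.1)⁻¹ • f.1) (by simp [f.2.2])
    (by simp [inv_mul_cancel₀ hef])
  obtain ⟨k, hk1, hk⟩ := exists_omega hB hF
  have hk3 : k * k * k = 1 := by linear_combination (k - 1) * hk
  have hθ := theta_cube hB hk3
  have htwo := two hB
  let p : Fin 4 → Fin 4 → F := ![![1, 1, 0, 0], ![0, 1, 1, 0], ![0, 0, 1, 1], ![1, 1, 1, k]]
  have hval : ∀ i j : Fin 4, B (R.up (p i)) (R.up (p j)) =
      if i = j then 0 else if i.val + 1 = j.val then (![1, 1, 1 + k, 0] i)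
        else if j.val + 1 = i.val then (![1, 1, 1 + k * k, 0] j) else 0 := by
    intro i j
    rw [R.form_up hB]
    fin_cases i <;> fin_cases j <;>
      simp [p, hermB_apply, Fin.sum_univ_four, hθ] <;> grind
  have hne : ∀ i, R.up (p i) ≠ 0 := fun i h => by
    have h0 := congrFun ((R.down_up hB (p i)).symm.trans (by rw [h, map_zero]))
    fin_cases i
    · exact one_ne_zero (α := F) (by simpa [p] using h0 0)
    · exact one_ne_zero (α := F) (by simpa [p] using h0 1)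
    · exact one_ne_zero (α := F) (by simpa [p] using h0 2)
    · exact one_ne_zero (α := F) (by simpa [p] using h0 0)
  refine ⟨fun i => ⟨R.up (p i), hne i, by rw [hval]; simp⟩, fun i => ⟨R.e_up hB _, ?_⟩, fun i j => ?_⟩
  · have h := R.f_up hB (p i)
    rw [hR, LinearMap.map_smulₛₗ, LinearMap.smul_apply, smul_eq_mul] at h
    exact (mul_eq_zero.1 h).resolve_left ((map_ne_zero θ).2 (inv_ne_zero hef))
  · have h1 : (1 : F) + k ≠ 0 := fun h => hk1 (eq_of_add hB _ _ h).symm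
    have h2 : (1 : F) + k * k ≠ 0 := fun h => hk1 (by grind)
    show B (R.up (p i)) (R.up (p j)) = 0 ↔ _
    rw [hval]
    fin_cases i <;> fin_cases j <;> simp [h1, h2]

end UModel

end Cfsg.Agent.ThreeTrans
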