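/-!
# Certificates: closures of eight points of the six-dimensional unitary space

For each choice of the three parameters either more points than fit in a common perpendicular set are
generated, or a chain of six.
-/

set_option autoImplicit false

namespace Cfsg.Agent.ThreeTrans.SixChain

/-- Steps. -/
def steps0 : List (Nat × Nat) := [(0, 1), (1, 2), (2, 3), (4, 5), (3, 6), (4, 6), (3, 7), (4, 7), (2, 8), (3, 9), (6, 10), (7, 10), (8, 10), (6, 11), (7, 11), (4, 12), (7, 12), (9, 12), (11, 12), (7, 13), (10, 13), (4, 14), (9, 14), (11, 14), (13, 14), (10, 15), (12, 15), (12, 16), (14, 16), (13, 17), (15, 17), (7, 18), (11, 18), (14, 18), (15, 18), (11, 19), (13, 19), (13, 20), (15, 20), (7, 21), (14, 21), (15, 21), (17, 21), (19, 21), (20, 21), (12, 22), (17, 22), (18, 22), (20, 22), (7, 23), (14, 23), (15, 23), (19, 23), (22, 23), (9, 24), (11, 24), (13, 24), (16, 24), (17, 24), (20, 24), (21, 24), (22, 24), (15, 25), (19, 25), (22, 25),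 (14, 26), (15, 26), (19, 26), (10, 27), (17, 27), (18, 27), (19, 27), (20, 27), (25, 27), (26, 27), (14, 28), (15, 28), (22, 28), (24, 28), (18, 29), (21, 29), (25, 29), (26, 29), (28, 29), (13, 30), (21, 30), (23, 30), (26, 30), (27, 30), (28, 30), (13, 31), (18, 31), (25, 31), (27, 31), (28, 31), (16, 32), (17, 32), (18, 32), (20, 32), (22, 32), (25, 32), (26, 32), (12, 33), (21, 33), (24, 33), (25, 33), (26, 33), (32, 33), (16, 34), (17, 34), (19, 34), (20, 34), (21, 34), (28, 34), (30, 34), (31, 34), (19, 35), (22, 35), (27, 35)]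
/-- Steps. -/
def steps1 : List (Nat × Nat) := [(0, 1), (1, 2), (2, 3), (4, 5), (3, 6), (4, 6), (1, 7), (3, 7), (4, 7), (2, 8), (7, 8), (3, 9), (7, 9), (6, 10), (7, 10), (8, 10), (6, 11), (7, 11), (4, 12), (7, 12), (9, 12), (11, 12), (7, 13), (10, 13), (3, 14), (4, 14), (10, 14), (11, 14), (12, 14), (13, 14), (4, 15), (8, 15), (9, 15), (11, 15), (13, 15), (8, 16), (9, 16), (10, 16), (12, 16), (7, 17), (12, 17), (14, 17), (15, 17), (16, 17), (10, 18), (11, 18), (12, 18), (13, 18), (7, 19), (13, 19), (14, 19), (15, 19), (16, 19), (18, 19), (10, 20), (12, 20), (7, 21), (11, 21), (16, 21), (11, 22), (13, 22), (17, 22), (18, 22), (13, 23), (14, 23), (15, 23), (16, 23), (7, 24), (19, 24), (23, 24), (19, 25), (23, 25), (7, 26), (14, 26), (15, 26), (16, 26), (18, 26), (20, 26), (22, 26), (25, 26), (11, 27), (13, 27), (20, 27), (25, 27), (16, 28), (25, 28), (14, 29), (15, 29), (16, 29), (18, 29), (20, 29), (19, 30), (22, 30), (23, 30), (28, 30), (14,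 31), (18, 31), (20, 31), (4, 32), (11, 32), (13, 32), (16, 32), (24, 32), (25, 32), (26, 32), (29, 32), (30, 32), (31, 32), (10, 33), (12, 33), (19, 33), (21, 33), (22, 33), (23, 33), (26, 33), (27, 33), (29, 33), (31, 33), (11, 34)]
/-- Steps. -/
def steps2 : List (Nat × Nat) := [(0, 1), (1, 2), (2, 3), (4, 5), (3, 6), (4, 6), (1, 7), (3, 7), (4, 7), (2, 8), (7, 8), (3, 9), (7, 9), (6, 10), (7, 10), (8, 10), (6, 11), (7, 11), (4, 12), (7, 12), (9, 12), (11, 12), (7, 13), (10, 13), (3, 14), (4, 14), (11, 14), (12, 14), (13, 14), (4, 15), (8, 15), (11, 15), (13, 15), (8, 16), (9, 16), (10, 16), (12, 16), (7, 17), (12, 17), (14, 17), (16, 17), (11, 18), (12, 18), (13, 18), (13, 19), (11, 20), (13, 20), (7, 21), (11, 21), (15, 21), (16, 21), (11, 22), (13, 22), (13, 23), (7, 24), (14, 24), (15, 24), (16, 24), (18, 24), (19, 24), (20, 24), (22, 24), (23, 24), (12, 25), (17, 25), (21, 25), (7, 26), (14, 26), (15, 26), (16, 26), (18, 26), (20, 26),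 (22, 26), (25, 26), (11, 27), (13, 27), (24, 27), (25, 27), (16, 28), (25, 28), (14, 29), (15, 29), (16, 29), (18, 29), (20, 29), (22, 29), (10, 30), (17, 30), (21, 30), (22, 30), (23, 30), (29, 30), (14, 31), (15, 31), (16, 31), (18, 31), (20, 31), (25, 31), (27, 31), (4, 32), (11, 32), (13, 32), (16, 32), (24, 32), (25, 32), (26, 32), (29, 32), (30, 32), (31, 32), (12, 33), (17, 33), (24, 33), (26, 33), (27, 33), (28, 33), (29, 33), (12, 34), (17, 34), (21, 34)]
/-- Steps. -/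
def steps3 : List (Nat × Nat) := [(0, 1), (1, 2), (2, 3), (4, 5), (3, 6), (4, 6), (1, 7), (3, 7), (4, 7), (2, 8), (7, 8), (3, 9), (7, 9), (6, 10), (7, 10), (8, 10), (6, 11), (7, 11), (4, 12), (7, 12), (9, 12), (11, 12), (7, 13), (10, 13), (3, 14), (4, 14), (10, 14), (11, 14), (12, 14), (13, 14), (4, 15), (8, 15), (9, 15), (11, 15), (13, 15), (8, 16), (9, 16), (10, 16), (12, 16), (7, 17), (12, 17), (14, 17), (15, 17), (16, 17), (10, 18), (11, 18), (12, 18), (13, 18), (7, 19), (13, 19), (14, 19), (15, 19), (16, 19), (18, 19), (10, 20), (11, 20), (12, 20), (13, 20), (7, 21), (11, 21), (14, 21), (15, 21), (16, 21), (18, 21), (20, 21), (8, 22), (11, 22), (13, 22), (17, 22), (18, 22), (13, 23), (14, 23), (15, 23), (16, 23), (20, 23), (7, 24), (14, 24), (15, 24), (16, 24), (18, 24), (19, 24), (20, 24), (22, 24), (23, 24), (12, 25), (17, 25), (19, 25), (21, 25), (23, 25), (7, 26), (14, 26), (15, 26), (16, 26), (18, 26), (22, 26), (25, 26), (9, 27),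 (11, 27), (13, 27), (17, 27), (19, 27), (20, 27), (23, 27), (24, 27), (25, 27), (14, 28), (15, 28), (18, 28), (22, 28), (14, 29), (15, 29), (16, 29), (18, 29), (22, 29), (10, 30), (17, 30), (21, 30), (22, 30), (29, 30)]
/-- Steps. -/
def steps4 : List (Nat × Nat) := [(0, 1), (1, 2), (2, 3), (4, 5), (1, 6), (3, 6), (4, 6), (3, 7), (4, 7), (2, 8), (6, 8), (3, 9), (6, 9), (6, 10), (7, 10), (8, 10), (6, 11), (7, 11), (3, 12), (4, 12), (11, 12), (4, 13), (7, 13), (8, 13), (11, 13), (7, 14), (8, 14), (9, 14), (10, 14), (4, 15), (9, 15), (11, 15), (12, 15), (14, 15), (10, 16), (12, 16), (13, 16), (6, 17), (12, 17), (14, 17), (15, 17), (11, 18), (15, 18), (16, 18), (16, 19), (11, 20), (16, 20), (7, 21), (11, 21), (15, 21), (16, 21), (11, 22), (14, 22), (16, 23), (7, 24), (15, 24), (16, 24), (17, 24), (22, 24), (12, 25), (13, 25), (18, 25), (19, 25), (20, 25), (21, 25), (23, 25), (4, 26), (11, 26), (14, 26), (16, 26), (24, 26), (25, 26), (15, 27),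 (17, 27), (22, 27), (25, 27), (15, 28), (17, 28), (22, 28), (7, 29), (8, 29), (15, 29), (16, 29), (18, 29), (22, 29), (25, 29), (28, 29), (11, 30), (14, 30), (24, 30), (25, 30), (27, 30), (28, 30), (11, 31), (16, 31), (24, 31), (25, 31), (27, 31), (28, 31), (15, 32), (16, 32), (22, 32), (10, 33), (17, 33), (19, 33), (21, 33), (22, 33), (23, 33), (26, 33), (28, 33), (31, 33), (32, 33), (15, 34), (20, 34), (22, 34), (25, 34), (30, 34), (32, 34), (15, 35)]
/-- Steps. -/
def steps5 : List (Nat × Nat) := [(0, 1), (1, 2), (2, 3), (4, 5), (1, 6), (3, 6), (4, 6), (1, 7), (3, 7), (4, 7), (2, 8), (6, 8), (7, 8), (3, 9), (6, 9), (7, 9), (6, 10), (7, 10), (8, 10), (6, 11), (7, 11), (3, 12), (4, 12), (7, 12), (11, 12), (4, 13), (7, 13), (8, 13), (11, 13), (7, 14), (8, 14), (9, 14), (10, 14), (3, 15), (4, 15), (10, 15), (11, 15), (13, 15), (4, 16), (8, 16), (9, 16), (11, 16), (12, 16), (14, 16), (8, 17), (9, 17), (10, 17), (13, 17), (6, 18), (7, 18), (12,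 18), (14, 18), (15, 18), (16, 18), (17, 18), (7, 19), (11, 19), (15, 19), (16, 19), (10, 20), (11, 20), (13, 20), (7, 21), (15, 21), (16, 21), (17, 21), (20, 21), (7, 22), (11, 22), (15, 22), (16, 22), (10, 23), (11, 23), (13, 23), (7, 24), (11, 24), (15, 24), (16, 24), (17, 24), (20, 24), (23, 24), (8, 25), (11, 25), (12, 25), (14, 25), (18, 25), (19, 25), (20, 25), (22, 25), (15, 26), (16, 26), (17, 26), (23, 26), (7, 27), (16, 27), (17, 27), (18, 27), (25, 27), (13, 28), (18, 28), (21, 28), (24, 28), (26, 28), (4, 29), (7, 29), (11, 29), (14, 29), (15, 29), (16, 29), (17, 29), (20, 29), (23, 29), (25, 29), (27, 29), (28, 29), (16, 30), (18, 30), (13, 31), (21, 31)]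
/-- Steps. -/
def steps6 : List (Nat × Nat) := [(0, 1), (1, 2), (2, 3), (4, 5), (1, 6), (3, 6), (4, 6), (1, 7), (3, 7), (4, 7), (2, 8), (6, 8), (7, 8), (3, 9), (6, 9), (7, 9), (6, 10), (7, 10), (8, 10), (6, 11), (7, 11), (3, 12), (4, 12), (7, 12), (11, 12), (4, 13), (7, 13), (8, 13), (11, 13), (7, 14), (8, 14), (9, 14), (10, 14), (3, 15), (4, 15), (11, 15), (14, 15), (4, 16), (8, 16), (11, 16), (14, 16), (8, 17), (9, 17), (10, 17), (12, 17), (13, 17), (6, 18), (7, 18), (12, 18), (14, 18), (15, 18), (17, 18), (7, 19), (11, 19), (15, 19), (17, 19), (11, 20), (14, 20), (7, 22), (11, 22), (15, 22), (16, 22), (17, 22), (11, 23), (14, 23), (7, 24), (11, 24), (17, 24), (20, 24), (11, 25), (14, 25), (7, 27), (18, 27), (20, 27), (18, 28), (19, 28), (4, 29), (11, 29), (14, 29), (17, 29), (27, 29), (28, 29), (7, 30), (15, 30), (16, 30), (17, 30), (18, 30), (20, 30), (23, 30), (25, 30), (28, 30), (11, 31), (14, 31), (28, 31), (15, 32), (16, 32), (17,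 32), (18, 32), (20, 32), (25, 32), (7, 33), (8, 33), (15, 33), (16, 33), (17, 33), (19, 33), (20, 33), (23, 33), (25, 33), (28, 33), (31, 33), (32, 33), (11, 34), (14, 34), (26, 34), (28, 34), (30, 34), (32, 34), (11, 35)]
/-- Steps. -/
def steps7 : List (Nat × Nat) := [(0, 1), (1, 2), (2, 3), (4, 5), (1, 6), (3, 6), (4, 6), (1, 7), (3, 7), (4, 7), (2, 8), (6, 8), (7, 8), (3, 9), (6, 9), (7, 9), (6, 10), (7, 10), (8, 10), (6, 11), (7, 11), (3, 12), (4, 12), (7, 12), (11, 12), (4, 13), (7, 13), (8, 13), (11, 13), (7, 14), (8, 14), (9, 14), (10, 14), (3, 15), (4, 15), (10, 15), (11, 15), (13, 15), (14, 15), (4, 16), (8, 16), (9, 16), (11, 16), (12, 16), (14, 16), (8, 17), (9, 17), (10, 17), (12, 17), (13, 17), (6, 18), (7, 18), (12, 18), (14, 18), (15, 18), (16, 18), (17, 18), (7, 19), (11, 19), (15, 19), (16, 19), (17, 19), (10, 20), (11, 20), (13, 20), (14, 20), (7, 21), (15, 21), (16, 21), (17, 21), (20, 21), (7, 22), (11, 22), (15, 22),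 (16, 22), (17, 22), (10, 23), (11, 23), (13, 23), (14, 23), (7, 24), (11, 24), (15, 24), (16, 24), (17, 24), (20, 24), (23, 24), (8, 25), (11, 25), (12, 25), (14, 25), (18, 25), (19, 25), (20, 25), (22, 25), (15, 26), (16, 26), (17, 26), (23, 26), (7, 27), (16, 27), (18, 27), (23, 27), (25, 27), (13, 28), (18, 28), (21, 28), (22, 28), (24, 28), (26, 28), (4, 29), (7, 29), (11, 29), (14, 29), (15, 29), (16, 29), (20, 29), (23, 29), (25, 29)]
/-- Steps. -/
def steps8 : List (Nat × Nat) := [(0, 1), (1, 2), (2, 3), (4, 5), (1, 6), (3, 6), (4, 6), (3, 7), (4, 7), (2, 8), (6, 8), (3, 9), (6, 9), (6, 10), (7, 10), (8, 10), (6, 11), (7, 11), (3, 12), (4, 12), (10, 12), (11, 12), (4, 13), (7, 13), (8, 13), (9, 13), (11, 13), (7, 14), (8, 14), (9, 14), (10, 14), (4, 15), (9, 15), (11, 15), (12, 15), (14, 15), (10, 16), (12, 16), (13, 16), (6, 17), (12, 17), (13, 17), (14, 17), (15, 17), (10, 18), (11, 18), (15, 18), (16, 18), (6, 19), (12, 19), (13,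 19), (14, 19), (16, 19), (18, 19), (10, 20), (15, 20), (7, 21), (11, 21), (16, 21), (17, 21), (18, 21), (11, 22), (14, 22), (12, 23), (13, 23), (14, 23), (16, 23), (7, 24), (19, 24), (23, 24), (19, 25), (23, 25), (4, 26), (11, 26), (14, 26), (16, 26), (17, 26), (24, 26), (25, 26), (10, 27), (15, 27), (19, 27), (21, 27), (22, 27), (23, 27), (11, 28), (14, 28), (15, 28), (16, 28), (24, 28), (25, 28), (15, 29), (19, 29), (21, 29), (22, 29), (23, 29), (7, 30), (8, 30), (9, 30), (15, 30), (16, 30), (17, 30), (18, 30), (19, 30), (20, 30), (22, 30), (23, 30), (25, 30), (28, 30), (29, 30), (11, 31), (14, 31), (25, 31), (27, 31), (29, 31), (11, 32), (16, 32), (24, 32), (25, 32)]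
/-- Steps. -/
def steps9 : List (Nat × Nat) := [(0, 1), (1, 2), (2, 3), (4, 5), (1, 6), (3, 6), (4, 6), (1, 7), (3, 7), (4, 7), (2, 8), (6, 8), (7, 8), (3, 9), (6, 9), (7, 9), (6, 10), (7, 10), (8, 10), (6, 11), (7, 11), (3, 12), (4, 12), (7, 12), (10, 12), (11, 12), (4, 13), (7, 13), (8, 13), (9, 13), (11, 13), (7, 14), (8, 14), (9, 14), (10, 14), (3, 15), (4, 15), (10, 15), (11, 15), (13, 15), (14, 15), (4, 16), (8, 16), (9, 16), (11, 16), (12, 16), (14, 16), (8, 17), (9, 17), (10, 17), (12, 17), (13, 17), (6, 18), (7, 18), (12, 18), (13, 18), (14, 18), (15, 18), (16, 18), (17, 18), (7, 19), (10, 19), (11, 19), (15, 19), (16, 19), (17, 19), (10, 20), (11, 20), (13, 20), (14, 20), (6, 21), (7, 21), (12, 21), (13, 21), (14, 21), (15, 21), (16, 21), (17, 21), (19, 21), (20, 21), (7, 22), (10, 22), (11, 22), (15, 22), (17, 22), (10, 23), (11, 23), (14, 23), (7, 24), (8, 24), (11, 24), (16, 24), (17, 24), (18, 24), (19, 24), (8, 25), (11, 25),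 (14, 25), (18, 25), (20, 25), (12, 26), (13, 26), (14, 26), (15, 26), (16, 26), (17, 26), (22, 26), (23, 26), (7, 27), (16, 27), (18, 27), (21, 27), (23, 27), (25, 27), (26, 27), (13, 28), (18, 28), (21, 28), (22, 28)]
/-- Steps. -/
def steps10 : List (Nat × Nat) := [(0, 1), (1, 2), (2, 3), (4, 5), (1, 6), (3, 6), (4, 6), (1, 7), (3, 7), (4, 7), (2, 8), (6, 8), (7, 8), (3, 9), (6, 9), (7, 9), (6, 10), (7, 10), (8, 10), (6, 11), (7, 11), (3, 12), (4, 12), (7, 12), (10, 12), (11, 12), (4, 13), (7, 13), (8, 13), (9, 13), (11, 13), (7, 14), (8, 14), (9, 14), (10, 14), (3, 15), (4, 15), (11, 15), (13, 15), (4, 16), (8, 16), (11, 16), (12, 16), (14, 16), (8, 17), (9, 17), (10, 17), (13, 17), (6, 18), (7, 18), (12, 18), (13, 18), (14, 18), (15, 18), (17, 18), (7, 19), (10, 19), (11, 19), (15, 19), (16, 19), (11, 20), (13, 20), (6, 21), (12, 21), (13, 21), (14, 21), (19, 21), (7, 22), (10, 22), (11, 22), (15, 22), (16, 22), (11, 23), (13, 23), (7,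 24), (8, 24), (11, 24), (15, 24), (16, 24), (17, 24), (18, 24), (19, 24), (20, 24), (23, 24), (11, 25), (12, 25), (14, 25), (19, 25), (22, 25), (12, 26), (13, 26), (14, 26), (22, 26), (7, 27), (16, 27), (17, 27), (18, 27), (21, 27), (25, 27), (26, 27), (13, 28), (18, 28), (24, 28), (4, 29), (7, 29), (11, 29), (14, 29), (15, 29), (16, 29), (17, 29), (18, 29), (20, 29), (23, 29), (25, 29), (26, 29), (27, 29), (28, 29), (10, 30), (16, 30)]
/-- Steps. -/
def steps11 : List (Nat × Nat) := [(0, 1), (1, 2), (2, 3), (4, 5), (1, 6), (3, 6), (4, 6), (1, 7), (3, 7), (4, 7), (2, 8), (6, 8), (7, 8), (3, 9), (6, 9), (7, 9), (6, 10), (7, 10), (8, 10), (6, 11), (7, 11), (3, 12), (4, 12), (7, 12), (10, 12), (11, 12), (4, 13), (7, 13), (8, 13), (9, 13), (11, 13), (7, 14), (8, 14), (9, 14), (10, 14), (3, 15), (4, 15), (10, 15), (11, 15), (14, 15), (4, 16), (8, 16), (9, 16), (11, 16), (14, 16), (8, 17), (9, 17), (10, 17), (12, 17), (13, 17), (6, 18), (7, 18),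 (12, 18), (13, 18), (14, 18), (15, 18), (16, 18), (17, 18), (7, 19), (10, 19), (11, 19), (15, 19), (17, 19), (10, 20), (11, 20), (14, 20), (6, 21), (7, 21), (12, 21), (13, 21), (14, 21), (15, 21), (16, 21), (17, 21), (19, 21), (20, 21), (7, 22), (10, 22), (11, 22), (15, 22), (16, 22), (17, 22), (10, 23), (11, 23), (13, 23), (14, 23), (7, 24), (8, 24), (11, 24), (16, 24), (17, 24), (18, 24), (19, 24), (20, 24), (8, 25), (11, 25), (14, 25), (18, 25), (19, 25), (20, 25), (12, 26), (13, 26), (14, 26), (15, 26), (16, 26), (17, 26), (22, 26), (23, 26), (7, 27), (15, 27), (16, 27), (17, 27), (18, 27), (20, 27), (21, 27), (23, 27), (25, 27), (26, 27), (12, 28)]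
/-- Steps. -/
def steps12 : List (Nat × Nat) := [(0, 1), (1, 2), (2, 3), (4, 5), (1, 6), (3, 6), (4, 6), (3, 7), (4, 7), (2, 8), (6, 8), (3, 9), (6, 9), (6, 10), (7, 10), (8, 10), (6, 11), (7, 11), (3, 12), (4, 12), (10, 12), (11, 12), (4, 13), (7, 13), (8, 13), (9, 13), (11, 13), (7, 14), (8, 14), (9, 14), (10, 14), (4, 15), (9, 15), (11, 15), (12, 15), (14, 15), (10, 16), (12, 16), (13, 16), (6, 17), (12, 17), (13, 17), (14, 17), (15, 17), (10, 18), (11, 18), (15, 18), (16, 18), (6, 19), (12, 19), (13, 19), (14, 19), (16, 19), (18, 19), (10, 20), (11, 20), (15, 20), (16, 20), (7, 21), (8, 21), (11, 21), (15, 21), (16, 21), (17, 21), (18, 21), (11, 22), (12, 22), (14, 22), (18, 22), (20, 22), (12, 23), (13, 23), (14, 23), (16, 23), (20, 23), (7, 24), (15, 24), (16, 24), (17, 24), (19, 24), (22, 24), (23, 24), (12, 25), (13, 25), (18, 25), (19, 25), (20, 25), (21, 25), (23, 25), (4, 26), (11, 26), (14, 26), (16, 26), (17, 26), (22, 26), (23,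 26), (24, 26), (25, 26), (10, 27), (15, 27), (17, 27), (19, 27), (21, 27), (23, 27), (25, 27), (11, 28), (14, 28), (15, 28), (17, 28), (24, 28), (15, 29), (17, 29), (19, 29), (21, 29), (23, 29), (7, 30), (8, 30), (9, 30), (15, 30)]
/-- Steps. -/
def steps13 : List (Nat × Nat) := [(0, 1), (1, 2), (2, 3), (4, 5), (1, 6), (3, 6), (4, 6), (1, 7), (3, 7), (4, 7), (2, 8), (6, 8), (7, 8), (3, 9), (6, 9), (7, 9), (6, 10), (7, 10), (8, 10), (6, 11), (7, 11), (3, 12), (4, 12), (7, 12), (10, 12), (11, 12), (4, 13), (7, 13), (8, 13), (9, 13), (11, 13), (7, 14), (8, 14), (9, 14), (10, 14), (3, 15), (4, 15), (10, 15), (11, 15), (14, 15), (4, 16), (8, 16), (9, 16), (11, 16), (14, 16), (8, 17), (9, 17), (10, 17), (12, 17), (13, 17), (6, 18), (7, 18), (12, 18), (13, 18), (14, 18), (15, 18), (16, 18), (17, 18), (7, 19), (10, 19), (11, 19), (15, 19), (17, 19), (10, 20), (11, 20), (14, 20), (6, 21), (7, 21), (12, 21), (13, 21), (14, 21), (15, 21), (16, 21), (17,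 21), (19, 21), (20, 21), (7, 22), (10, 22), (11, 22), (15, 22), (16, 22), (17, 22), (10, 23), (11, 23), (13, 23), (14, 23), (7, 24), (8, 24), (11, 24), (16, 24), (17, 24), (18, 24), (19, 24), (20, 24), (8, 25), (11, 25), (14, 25), (18, 25), (19, 25), (20, 25), (12, 26), (13, 26), (14, 26), (15, 26), (16, 26), (17, 26), (22, 26), (23, 26), (7, 27), (15, 27), (16, 27), (17, 27), (18, 27), (20, 27), (21, 27), (23, 27), (25, 27), (26, 27), (12, 28)]
/-- Steps. -/
def steps14 : List (Nat × Nat) := [(0, 1), (1, 2), (2, 3), (4, 5), (1, 6), (3, 6), (4, 6), (1, 7), (3, 7), (4, 7), (2, 8), (6, 8), (7, 8), (3, 9), (6, 9), (7, 9), (6, 10), (7, 10), (8, 10), (6, 11), (7, 11), (3, 12), (4, 12), (7, 12), (10, 12), (11, 12), (4, 13), (7, 13), (8, 13), (9, 13), (11, 13), (7, 14), (8, 14), (9, 14), (10, 14), (3, 15), (4, 15), (11, 15), (13, 15), (14, 15), (4, 16), (8, 16), (11, 16), (12, 16), (14, 16), (8, 17), (9, 17), (10, 17), (12, 17), (13, 17), (6, 18),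 (7, 18), (12, 18), (13, 18), (14, 18), (15, 18), (17, 18), (7, 19), (10, 19), (11, 19), (15, 19), (16, 19), (17, 19), (11, 20), (13, 20), (14, 20), (6, 21), (12, 21), (13, 21), (14, 21), (19, 21), (7, 22), (10, 22), (11, 22), (15, 22), (16, 22), (17, 22), (11, 23), (13, 23), (14, 23), (7, 24), (8, 24), (11, 24), (15, 24), (16, 24), (17, 24), (18, 24), (19, 24), (20, 24), (23, 24), (11, 25), (12, 25), (14, 25), (19, 25), (22, 25), (12, 26), (13, 26), (14, 26), (22, 26), (7, 27), (16, 27), (18, 27), (21, 27), (23, 27), (25, 27), (26, 27), (13, 28), (18, 28), (22, 28), (24, 28), (4, 29), (7, 29), (11, 29), (14, 29), (15, 29), (16, 29), (18, 29), (20, 29), (23, 29)]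
/-- Steps. -/
def steps15 : List (Nat × Nat) := [(0, 1), (1, 2), (2, 3), (4, 5), (1, 6), (3, 6), (4, 6), (1, 7), (3, 7), (4, 7), (2, 8), (6, 8), (7, 8), (3, 9), (6, 10), (7, 10), (8, 10), (6, 11), (7, 11), (3, 12), (4, 12), (10, 12), (11, 12), (4, 13), (7, 13), (8, 13), (9, 13), (11, 13), (7, 14), (8, 14), (9, 14), (10, 14), (3, 15), (4, 15), (10, 15), (11, 15), (13, 15), (4, 16), (8, 16), (9, 16), (11, 16), (12, 16), (14, 16), (10, 17), (13, 17), (13, 18), (16, 18), (10, 19), (11, 19), (16, 19), (10, 20), (11, 20), (13, 20), (12, 21), (14, 21), (15, 21), (17, 21), (7, 22), (8, 22), (11, 22), (16, 22), (17, 22), (8, 23), (11, 23), (14, 23), (14, 24), (17, 24), (7, 25), (21, 25), (24, 25), (21, 26), (24, 26), (4, 27), (11, 27), (14, 27), (15, 27), (17, 27), (25, 27), (26, 27), (10, 28), (16, 28), (21, 28), (22, 28), (23, 28), (24, 28), (11, 29), (14, 29), (15, 29), (25, 29), (26, 29), (16, 30), (21, 30), (22, 30), (24, 30), (7, 31), (8, 31),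 (9, 31), (15, 31), (16, 31), (17, 31), (18, 31), (19, 31), (20, 31), (21, 31), (23, 31), (24, 31), (26, 31), (29, 31), (30, 31), (11, 32), (14, 32), (26, 32), (28, 32), (30, 32), (11, 33), (17, 33), (25, 33), (26, 33), (28, 33)]
/-- Steps. -/
def steps16 : List (Nat × Nat) := [(0, 1), (1, 2), (2, 3), (1, 5), (4, 5), (3, 6), (4, 6), (3, 7), (4, 7), (2, 8), (5, 8), (3, 9), (5, 9), (6, 10), (7, 10), (8, 10), (4, 11), (10, 11), (6, 12), (7, 12), (8, 12), (9, 12), (4, 13), (7, 13), (9, 13), (12, 13), (7, 14), (10, 14), (11, 14), (4, 15), (9, 15), (12, 15), (14, 15), (10, 16), (11, 16), (13, 16), (5, 17), (11, 17), (12, 17), (13, 17), (15, 17), (10, 18), (14, 18), (16, 18), (12, 19), (14, 19), (16, 19), (18, 19), (13, 20), (14, 20), (15, 20), (16, 20), (7, 21), (12, 21), (15, 21), (16, 21), (18, 21), (12, 22), (14, 22), (18, 22), (12, 23), (14, 23), (16, 23), (20, 23), (13, 24), (15, 24), (17, 24), (22, 24), (23, 24), (16, 25), (7, 26), (15, 26),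 (16, 26), (17, 26), (22, 26), (13, 27), (17, 27), (19, 27), (21, 27), (23, 27), (25, 27), (13, 28), (15, 28), (20, 28), (22, 28), (25, 28), (15, 29), (22, 29), (23, 29), (7, 30), (15, 30), (16, 30), (22, 30), (27, 30), (9, 31), (12, 31), (14, 31), (17, 31), (19, 31), (20, 31), (23, 31), (24, 31), (25, 31), (26, 31), (27, 31), (28, 31), (29, 31), (16, 32), (18, 32), (22, 32), (27, 32), (15, 33), (16, 33), (22, 33), (10, 34), (11, 34), (18, 34), (19, 34), (20, 34)]
/-- Steps. -/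
def steps17 : List (Nat × Nat) := [(0, 1), (1, 2), (2, 3), (1, 5), (4, 5), (3, 6), (4, 6), (1, 7), (3, 7), (4, 7), (2, 8), (5, 8), (7, 8), (3, 9), (5, 9), (7, 9), (6, 10), (7, 10), (8, 10), (4, 11), (7, 11), (10, 11), (6, 12), (7, 12), (8, 12), (9, 12), (4, 13), (7, 13), (9, 13), (12, 13), (7, 14), (10, 14), (11, 14), (3, 15), (4, 15), (10, 15), (13, 15), (14, 15), (4, 16), (8, 16), (9, 16), (11, 16), (12, 16), (14, 16), (8, 17), (9, 17), (10, 17), (13, 17), (5, 18), (7, 18), (11, 18), (12, 18), (13, 18), (15, 18), (16, 18), (17, 18), (7, 19), (10, 19), (14, 19), (15, 19), (16, 19), (10, 20), (13, 20), (14, 20), (7, 21), (12, 21), (14, 21), (15, 21), (16, 21), (17, 21), (19, 21), (20, 21), (7, 22), (13, 22), (14, 22), (15, 22), (16, 22), (10, 23), (13, 23), (14, 23), (7, 24), (12, 24), (17, 24), (19, 24), (11, 25), (12, 25), (14, 25), (18, 25), (19, 25), (20, 25), (22, 25), (12, 26), (14, 26), (15, 26), (16, 26), (17, 26), (22, 26), (13, 27),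 (18, 27), (25, 27), (26, 27), (10, 28), (13, 28), (21, 28), (24, 28), (25, 28), (26, 28), (15, 29), (16, 29), (17, 29), (20, 29), (23, 29), (7, 30), (16, 30), (17, 30), (18, 30), (25, 30), (13, 31), (21, 31)]
/-- Steps. -/
def steps18 : List (Nat × Nat) := [(0, 1), (1, 2), (2, 3), (1, 5), (4, 5), (3, 6), (4, 6), (1, 7), (3, 7), (4, 7), (2, 8), (5, 8), (7, 8), (3, 9), (5, 9), (7, 9), (6, 10), (7, 10), (8, 10), (4, 11), (7, 11), (10, 11), (6, 12), (7, 12), (8, 12), (9, 12), (4, 13), (7, 13), (9, 13), (12, 13), (7, 14), (10, 14), (11, 14), (3, 15), (4, 15), (12, 15), (13, 15), (14, 15), (4, 16), (8, 16), (11, 16), (12, 16), (14, 16), (8, 17), (9, 17), (10, 17), (11, 17), (13, 17), (5, 18), (7, 18), (11, 18), (12, 18), (13, 18), (15, 18), (17, 18), (7, 19), (10, 19), (14, 19), (15, 19), (16, 19), (17, 19), (12, 20), (13, 20), (14, 20), (12, 21), (14, 21), (19, 21), (7, 22), (13, 22), (14, 22), (15, 22), (17, 22), (12, 23), (14, 23), (7, 24), (12,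 24), (16, 24), (17, 24), (19, 24), (12, 25), (14, 25), (12, 26), (14, 26), (22, 26), (7, 27), (13, 27), (15, 27), (16, 27), (17, 27), (18, 27), (20, 27), (23, 27), (25, 27), (26, 27), (12, 28), (13, 28), (14, 28), (26, 28), (17, 29), (7, 30), (16, 30), (18, 30), (23, 30), (25, 30), (9, 31), (13, 31), (18, 31), (19, 31), (20, 31), (22, 31), (23, 31), (24, 31), (26, 31), (13, 32), (15, 32), (16, 32), (17, 32), (22, 32), (23, 32)]
/-- Steps. -/
def steps19 : List (Nat × Nat) := [(0, 1), (1, 2), (2, 3), (1, 5), (4, 5), (3, 6), (4, 6), (1, 7), (3, 7), (4, 7), (2, 8), (5, 8), (7, 8), (3, 9), (5, 9), (7, 9), (6, 10), (7, 10), (8, 10), (4, 11), (7, 11), (10, 11), (6, 12), (7, 12), (8, 12), (9, 12), (4, 13), (7, 13), (9, 13), (12, 13), (7, 14), (10, 14), (11, 14), (3, 15), (4, 15), (10, 15), (12, 15), (13, 15), (14, 15), (4, 16), (8, 16), (9, 16), (11, 16), (12, 16), (14, 16), (8, 17), (9, 17), (10, 17), (11, 17), (13, 17), (5, 18), (7, 18), (11, 18),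 (12, 18), (13, 18), (15, 18), (16, 18), (17, 18), (7, 19), (10, 19), (14, 19), (15, 19), (16, 19), (17, 19), (10, 20), (12, 20), (13, 20), (14, 20), (7, 21), (12, 21), (14, 21), (15, 21), (16, 21), (17, 21), (19, 21), (20, 21), (7, 22), (13, 22), (14, 22), (15, 22), (16, 22), (17, 22), (10, 23), (12, 23), (13, 23), (14, 23), (7, 24), (12, 24), (17, 24), (19, 24), (20, 24), (23, 24), (8, 25), (12, 25), (14, 25), (18, 25), (19, 25), (20, 25), (22, 25), (12, 26), (14, 26), (15, 26), (16, 26), (17, 26), (22, 26), (23, 26), (7, 27), (13, 27), (15, 27), (16, 27), (17, 27), (18, 27), (20, 27), (23, 27), (26, 27), (10, 28), (12, 28), (13, 28), (14, 28)]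
/-- Steps. -/
def steps20 : List (Nat × Nat) := []
/-- Steps. -/
def steps21 : List (Nat × Nat) := [(0, 1), (1, 2), (2, 3), (1, 5), (4, 5), (1, 6), (3, 6), (4, 6), (1, 7), (3, 7), (4, 7), (2, 8), (5, 8), (6, 8), (7, 8), (3, 9), (7, 9), (6, 10), (7, 10), (8, 10), (4, 11), (7, 11), (10, 11), (6, 12), (7, 12), (8, 12), (9, 12), (3, 13), (4, 13), (7, 13), (4, 14), (7, 14), (12, 14), (7, 15), (10, 15), (3, 16), (4, 16), (10, 16), (14, 16), (4, 17), (8, 17), (9, 17), (11, 17), (12, 17), (13, 17), (15, 17), (8, 18), (9, 18), (10, 18), (14, 18), (7, 19), (16, 19), (17, 19), (18, 19), (7, 20), (16, 20), (17, 20), (7, 21), (16, 21), (17, 21), (10, 22), (14, 22), (7, 23), (12, 23), (16, 23), (17, 23), (18, 23), (22, 23), (10, 24), (14, 24), (7, 25), (12, 25), (16, 25), (17, 25), (18, 25), (22, 25), (24, 25), (8, 26), (11, 26), (12, 26), (13, 26), (15, 26), (19, 26), (20, 26), (21, 26), (22, 26), (12, 27), (16, 27), (17, 27), (18, 27), (24, 27), (25,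 28), (26, 28), (10, 29), (14, 29), (23, 29), (25, 29), (26, 29), (27, 29), (16, 30), (17, 30), (18, 30), (22, 30), (24, 30), (7, 31), (17, 31), (26, 31), (27, 31), (14, 32), (23, 32), (25, 32), (27, 32), (30, 32), (26, 33), (7, 35), (16, 35), (17, 35), (18, 35), (22, 35)]
/-- Steps. -/
def steps22 : List (Nat × Nat) := [(0, 1), (1, 2), (2, 3), (1, 5), (4, 5), (1, 6), (3, 6), (4, 6), (1, 7), (3, 7), (4, 7), (2, 8), (5, 8), (6, 8), (7, 8), (3, 9), (7, 9), (6, 10), (7, 10), (8, 10), (4, 11), (7, 11), (10, 11), (6, 12), (7, 12), (8, 12), (9, 12), (3, 13), (4, 13), (7, 13), (4, 14), (7, 14), (12, 14), (7, 15), (10, 15), (3, 16), (4, 16), (12, 16), (15, 16), (4, 17), (8, 17), (11, 17), (12, 17), (15, 17), (8, 18), (9, 18), (10, 18), (11, 18), (13, 18), (14, 18), (7, 19), (16, 19), (18, 19), (7, 20), (16, 20), (17, 20), (18, 20), (7, 21), (16, 21), (18, 21), (12, 22), (15, 22), (12, 23), (12, 24), (15, 24), (7, 25), (12, 25), (18, 25), (12, 26),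 (15, 26), (12, 27), (7, 28), (16, 28), (17, 28), (18, 28), (22, 28), (24, 28), (25, 28), (26, 28), (12, 29), (15, 29), (18, 30), (7, 31), (16, 31), (17, 31), (18, 31), (22, 31), (24, 31), (26, 31), (27, 31), (29, 31), (8, 32), (9, 32), (13, 32), (14, 32), (19, 32), (20, 32), (21, 32), (22, 32), (24, 32), (25, 32), (27, 32), (16, 33), (17, 33), (18, 33), (24, 33), (26, 33), (29, 33), (16, 34), (17, 34), (18, 34), (22, 34), (26, 34), (29, 34), (7, 36), (16, 36), (17, 36), (18, 36), (22, 36)]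
/-- Steps. -/
def steps23 : List (Nat × Nat) := [(0, 1), (1, 2), (2, 3), (1, 5), (4, 5), (1, 6), (3, 6), (4, 6), (1, 7), (3, 7), (4, 7), (2, 8), (5, 8), (6, 8), (7, 8), (3, 9), (7, 9), (6, 10), (7, 10), (8, 10), (4, 11), (7, 11), (10, 11), (6, 12), (7, 12), (8, 12), (9, 12), (3, 13), (4, 13), (7, 13), (4, 14), (7, 14), (12, 14), (7, 15), (10, 15), (3, 16), (4, 16), (10, 16), (12, 16), (14, 16), (15, 16), (4, 17), (8, 17), (9, 17), (11, 17), (12, 17), (13, 17), (15, 17), (8, 18), (9, 18), (10, 18), (11, 18), (13, 18), (14, 18), (7, 19), (16, 19), (17, 19), (18, 19), (7, 20), (16, 20), (17, 20), (18, 20), (7, 21), (16, 21), (17, 21), (18, 21), (10, 22), (12, 22), (14, 22), (15, 22), (7, 23), (12, 23), (16, 23), (17, 23), (18, 23), (22, 23), (10, 24), (12, 24), (14, 24), (15, 24), (7, 25), (12, 25), (16, 25), (17, 25), (18, 25), (22, 25), (24, 25), (8, 26), (11, 26), (12, 26), (13, 26), (15, 26), (19, 26), (20, 26), (21, 26), (22, 26), (12, 27),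 (16, 27), (17, 27), (18, 27), (24, 27), (7, 28), (16, 28), (17, 28), (18, 28), (22, 28), (24, 28), (25, 28), (10, 29), (12, 29), (14, 29), (15, 29), (23, 29), (25, 29), (26, 29), (27, 29), (16, 30), (17, 30), (22, 30)]
/-- Steps. -/
def steps24 : List (Nat × Nat) := [(0, 1), (1, 2), (2, 3), (1, 5), (4, 5), (1, 6), (3, 6), (4, 6), (3, 7), (4, 7), (2, 8), (5, 8), (6, 8), (3, 9), (5, 9), (6, 9), (6, 10), (7, 10), (8, 10), (4, 11), (6, 11), (10, 11), (6, 12), (7, 12), (8, 12), (9, 12), (3, 13), (4, 13), (10, 13), (12, 13), (4, 14), (7, 14), (8, 14), (9, 14), (11, 14), (12, 14), (7, 15), (8, 15), (9, 15), (10, 15), (11, 15), (4, 16), (9, 16), (12, 16), (13, 16), (15, 16), (10, 17), (11, 17), (13, 17), (14, 17), (5, 18), (6, 18), (11, 18), (12, 18), (13, 18), (14, 18), (15, 18), (16, 18), (6, 19), (10, 19), (13, 19), (14, 19), (15, 19), (17, 19), (10, 20), (12, 20), (16, 20), (17, 20), (6, 21), (12, 21), (13, 21), (14, 21), (15, 21), (17, 21), (19,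 21), (20, 21), (6, 22), (13, 22), (14, 22), (15, 22), (16, 22), (17, 22), (10, 23), (12, 23), (16, 23), (17, 23), (7, 24), (11, 24), (12, 24), (17, 24), (18, 24), (19, 24), (20, 24), (22, 24), (12, 25), (15, 25), (19, 25), (12, 26), (13, 26), (14, 26), (15, 26), (17, 26), (22, 26), (6, 27), (13, 27), (14, 27), (15, 27), (16, 27), (18, 27), (20, 27), (23, 27), (24, 27), (25, 27), (26, 27), (10, 28), (12, 28), (16, 28), (17, 28), (21, 28)]
/-- Steps. -/
def steps25 : List (Nat × Nat) := [(0, 1), (1, 2), (2, 3), (1, 5), (4, 5), (1, 6), (3, 6), (4, 6), (1, 7), (3, 7), (4, 7), (2, 8), (5, 8), (6, 8), (7, 8), (3, 9), (5, 9), (6, 9), (7, 9), (6, 10), (7, 10), (8, 10), (4, 11), (6, 11), (7, 11), (10, 11), (6, 12), (7, 12), (8, 12), (9, 12), (3, 13), (4, 13), (7, 13), (10, 13), (12, 13), (4, 14), (7, 14), (8, 14), (9, 14), (11, 14), (12, 14), (7, 15), (8, 15), (9, 15), (10, 15), (11, 15), (3, 16), (4, 16), (10, 16), (14, 16), (15, 16), (4, 17), (8,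 17), (9, 17), (11, 17), (12, 17), (13, 17), (15, 17), (8, 18), (9, 18), (10, 18), (13, 18), (14, 18), (5, 19), (6, 19), (7, 19), (11, 19), (12, 19), (13, 19), (14, 19), (15, 19), (16, 19), (17, 19), (18, 19), (6, 20), (7, 20), (10, 20), (13, 20), (14, 20), (15, 20), (16, 20), (17, 20), (7, 21), (10, 21), (12, 21), (16, 21), (17, 21), (18, 21), (10, 22), (14, 22), (15, 22), (6, 23), (7, 23), (12, 23), (13, 23), (14, 23), (15, 23), (16, 23), (17, 23), (18, 23), (20, 23), (21, 23), (22, 23), (6, 24), (7, 24), (13, 24), (14, 24), (15, 24), (16, 24), (17, 24), (7, 25), (10, 25), (12, 25), (16, 25), (18, 25), (10, 26), (15, 26), (7, 27), (8, 27)]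
/-- Steps. -/
def steps26 : List (Nat × Nat) := [(0, 1), (1, 2), (2, 3), (1, 5), (4, 5), (1, 6), (3, 6), (4, 6), (1, 7), (3, 7), (4, 7), (2, 8), (5, 8), (6, 8), (7, 8), (3, 9), (5, 9), (6, 9), (7, 9), (6, 10), (7, 10), (8, 10), (4, 11), (6, 11), (7, 11), (10, 11), (6, 12), (7, 12), (8, 12), (9, 12), (3, 13), (4, 13), (7, 13), (10, 13), (12, 13), (4, 14), (7, 14), (8, 14), (9, 14), (11, 14), (12, 14), (7, 15), (8, 15), (9, 15), (10, 15), (11, 15), (3, 16), (4, 16), (12, 16), (14, 16), (4, 17), (8, 17), (11, 17), (12, 17), (13, 17), (15, 17), (8, 18), (9, 18), (10, 18), (11, 18), (14, 18), (5, 19), (6, 19), (7, 19), (11, 19), (12, 19), (13, 19), (14, 19), (15, 19), (16, 19), (18, 19), (6, 20), (7, 20), (10, 20), (13, 20), (14, 20), (15, 20), (16, 20), (17, 20), (18, 20), (7, 21), (10, 21), (12, 21), (16, 21), (17, 21), (12, 22), (14, 22), (6, 23), (12, 23), (13, 23), (14, 23), (15, 23), (20, 23), (21, 23), (6, 24), (7, 24), (13, 24), (14, 24),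 (16, 24), (7, 25), (10, 25), (12, 25), (16, 25), (17, 25), (12, 26), (14, 26), (7, 27), (8, 27), (11, 27), (12, 27), (16, 27), (17, 27), (18, 27), (19, 27), (20, 27), (21, 27), (22, 27), (24, 27), (26, 27)]
/-- Steps. -/
def steps27 : List (Nat × Nat) := [(0, 1), (1, 2), (2, 3), (1, 5), (4, 5), (1, 6), (3, 6), (4, 6), (1, 7), (3, 7), (4, 7), (2, 8), (5, 8), (6, 8), (7, 8), (3, 9), (5, 9), (6, 9), (7, 9), (6, 10), (7, 10), (8, 10), (4, 11), (10, 11), (6, 12), (7, 12), (8, 12), (9, 12), (3, 13), (4, 13), (10, 13), (12, 13), (4, 14), (7, 14), (8, 14), (9, 14), (11, 14), (12, 14), (7, 15), (8, 15), (9, 15), (10, 15), (11, 15), (3, 16), (4, 16), (10, 16), (12, 16), (15, 16), (4, 17), (9, 17), (12, 17), (15, 17), (8, 18), (9, 18), (10, 18), (11, 18), (13, 18), (14, 18), (5, 19), (6, 19), (7, 19), (11, 19), (12, 19), (13, 19), (14, 19), (15, 19), (16, 19), (17, 19), (18, 19), (10, 20), (15, 20), (18, 20), (10, 21), (12, 21), (18, 21), (10, 22), (12,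 22), (15, 22), (6, 23), (7, 23), (12, 23), (13, 23), (14, 23), (15, 23), (16, 23), (17, 23), (18, 23), (20, 23), (21, 23), (22, 23), (14, 24), (15, 24), (17, 24), (18, 24), (10, 25), (12, 25), (17, 25), (18, 25), (10, 26), (12, 26), (14, 26), (15, 26), (7, 27), (8, 27), (11, 27), (12, 27), (17, 27), (18, 27), (19, 27), (20, 27), (21, 27), (22, 27), (24, 27), (8, 28), (11, 28), (12, 28), (15, 28), (20, 28), (21, 28)]
/-- Steps. -/
def steps28 : List (Nat × Nat) := [(0, 1), (1, 2), (2, 3), (1, 5), (4, 5), (1, 6), (3, 6), (4, 6), (3, 7), (4, 7), (2, 8), (5, 8), (6, 8), (3, 9), (5, 9), (6, 9), (6, 10), (7, 10), (8, 10), (4, 11), (6, 11), (10, 11), (6, 12), (7, 12), (8, 12), (9, 12), (3, 13), (4, 13), (10, 13), (12, 13), (4, 14), (7, 14), (8, 14), (9, 14), (11, 14), (12, 14), (7, 15), (8, 15), (9, 15), (10, 15), (11, 15), (4, 16), (9, 16), (12, 16), (13, 16), (15, 16), (10, 17), (11, 17), (13, 17), (14, 17), (5, 18), (6, 18), (11, 18), (12, 18),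 (13, 18), (14, 18), (15, 18), (16, 18), (6, 19), (10, 19), (13, 19), (14, 19), (15, 19), (17, 19), (10, 20), (12, 20), (16, 20), (17, 20), (6, 21), (12, 21), (13, 21), (14, 21), (15, 21), (17, 21), (19, 21), (20, 21), (6, 22), (13, 22), (14, 22), (15, 22), (16, 22), (17, 22), (10, 23), (12, 23), (16, 23), (17, 23), (7, 24), (8, 24), (11, 24), (12, 24), (16, 24), (17, 24), (18, 24), (19, 24), (20, 24), (22, 24), (12, 25), (13, 25), (15, 25), (19, 25), (20, 25), (23, 25), (12, 26), (13, 26), (14, 26), (15, 26), (17, 26), (22, 26), (23, 26), (6, 27), (13, 27), (14, 27), (15, 27), (16, 27), (18, 27), (20, 27), (23, 27), (24, 27), (25, 27)]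
/-- Steps. -/
def steps29 : List (Nat × Nat) := [(0, 1), (1, 2), (2, 3), (1, 5), (4, 5), (1, 6), (3, 6), (4, 6), (1, 7), (3, 7), (4, 7), (2, 8), (5, 8), (6, 8), (7, 8), (3, 9), (5, 9), (6, 9), (7, 9), (6, 10), (7, 10), (8, 10), (4, 11), (6, 11), (7, 11), (10, 11), (6, 12), (7, 12), (8, 12), (9, 12), (3, 13), (4, 13), (7, 13), (10, 13), (12, 13), (4, 14), (7, 14), (8, 14), (9, 14), (11, 14), (12, 14), (7, 15), (8, 15), (9, 15), (10, 15), (11, 15), (3, 16), (4, 16), (10, 16), (15, 16), (4, 17), (8, 17), (9, 17), (11, 17), (12, 17), (15, 17), (8, 18), (9, 18), (10, 18), (13, 18), (14, 18), (5, 19), (6, 19), (7, 19), (11, 19), (12, 19), (13, 19), (14, 19), (15, 19), (16, 19), (17, 19), (18, 19), (6, 20), (7, 20), (10, 20), (13, 20), (14, 20), (15, 20), (16, 20), (17, 20), (7, 21), (10, 21), (12, 21), (16, 21), (18, 21), (10, 22), (15, 22), (6, 23), (7, 23), (12, 23), (13, 23), (14, 23), (15, 23), (16, 23), (17, 23), (18, 23), (20, 23), (21, 23),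 (22, 23), (6, 24), (7, 24), (13, 24), (15, 24), (16, 24), (7, 25), (10, 25), (16, 25), (17, 25), (10, 26), (14, 26), (15, 26), (7, 27), (8, 27), (11, 27), (12, 27), (17, 27), (18, 27), (19, 27), (21, 27)]
/-- Steps. -/
def steps30 : List (Nat × Nat) := [(0, 1), (1, 2), (2, 3), (1, 5), (4, 5), (1, 6), (3, 6), (4, 6), (1, 7), (3, 7), (4, 7), (2, 8), (5, 8), (6, 8), (7, 8), (3, 9), (5, 9), (6, 9), (7, 9), (6, 10), (7, 10), (8, 10), (4, 11), (6, 11), (7, 11), (10, 11), (6, 12), (7, 12), (8, 12), (9, 12), (3, 13), (4, 13), (7, 13), (10, 13), (12, 13), (4, 14), (7, 14), (8, 14), (9, 14), (11, 14), (12, 14), (7, 15), (8, 15), (9, 15), (10, 15), (11, 15), (3, 16), (4, 16), (12, 16), (14, 16), (15, 16), (4, 17), (8, 17), (11, 17), (12, 17), (13, 17), (15, 17), (8, 18), (9, 18), (10, 18), (11, 18), (13, 18), (14, 18), (5, 19), (6, 19), (7, 19), (11, 19), (12, 19), (13, 19), (14, 19), (15, 19), (16, 19), (18, 19), (6, 20), (7, 20), (10, 20), (13, 20),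 (14, 20), (15, 20), (16, 20), (17, 20), (18, 20), (7, 21), (10, 21), (12, 21), (16, 21), (17, 21), (18, 21), (12, 22), (14, 22), (15, 22), (6, 23), (12, 23), (13, 23), (14, 23), (15, 23), (20, 23), (21, 23), (6, 24), (7, 24), (13, 24), (14, 24), (15, 24), (16, 24), (18, 24), (7, 25), (10, 25), (12, 25), (16, 25), (17, 25), (18, 25), (12, 26), (14, 26), (15, 26), (7, 27), (8, 27), (11, 27), (12, 27), (16, 27)]
/-- Steps. -/
def steps31 : List (Nat × Nat) := [(0, 1), (1, 2), (2, 3), (1, 5), (4, 5), (1, 6), (3, 6), (4, 6), (1, 7), (3, 7), (4, 7), (2, 8), (5, 8), (6, 8), (7, 8), (3, 9), (5, 9), (6, 10), (7, 10), (8, 10), (4, 11), (6, 11), (7, 11), (10, 11), (6, 12), (7, 12), (8, 12), (9, 12), (3, 13), (4, 13), (10, 13), (12, 13), (4, 14), (7, 14), (8, 14), (9, 14), (11, 14), (12, 14), (7, 15), (8, 15), (9, 15), (10, 15), (11, 15), (3, 16), (4, 16), (10, 16), (12, 16), (14, 16), (4, 17), (8, 17), (9, 17), (11, 17), (12, 17), (13, 17), (15, 17),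 (10, 18), (11, 18), (14, 18), (5, 19), (11, 19), (12, 19), (14, 19), (17, 19), (6, 20), (7, 20), (10, 20), (13, 20), (14, 20), (15, 20), (16, 20), (17, 20), (18, 20), (10, 21), (12, 21), (17, 21), (10, 22), (12, 22), (14, 22), (12, 23), (13, 23), (15, 23), (16, 23), (18, 23), (20, 23), (14, 24), (15, 24), (17, 24), (18, 24), (7, 25), (8, 25), (11, 25), (12, 25), (17, 25), (18, 25), (20, 25), (24, 25), (8, 26), (11, 26), (12, 26), (15, 26), (20, 26), (24, 26), (12, 27), (15, 27), (18, 27), (24, 27), (6, 28), (7, 28), (13, 28), (14, 28), (15, 28), (16, 28), (17, 28), (18, 28), (19, 28), (21, 28), (22, 28), (25, 28), (27, 28)]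
/-- Steps. -/
def steps32 : List (Nat × Nat) := [(0, 1), (1, 2), (2, 3), (1, 5), (4, 5), (3, 6), (4, 6), (3, 7), (4, 7), (2, 8), (5, 8), (3, 9), (5, 9), (6, 10), (7, 10), (8, 10), (4, 11), (10, 11), (6, 12), (7, 12), (8, 12), (9, 12), (4, 13), (7, 13), (9, 13), (12, 13), (7, 14), (10, 14), (11, 14), (4, 15), (9, 15), (12, 15), (14, 15), (10, 16), (11, 16), (13, 16), (5, 17), (11, 17), (12, 17), (13, 17), (15, 17), (10, 18), (14, 18), (16, 18), (12, 19), (14, 19), (16, 19), (18, 19), (13, 20), (14, 20), (15, 20), (16, 20), (7, 21), (12, 21), (15, 21), (16, 21), (18, 21), (12, 22), (14, 22), (18, 22), (12, 23), (14, 23), (16, 23), (20, 23), (13, 24), (15, 24), (17, 24), (21, 24), (23, 24), (14, 25), (7, 26), (15, 26), (16, 26), (17, 26), (19, 26), (22, 26), (23, 26), (25, 26), (13, 27), (17, 27), (21, 27), (13, 28), (15, 28), (20, 28), (21, 28), (25, 28), (13, 29), (21, 29), (23, 29), (7, 30), (15, 30), (16, 30), (20, 30), (22, 30), (25, 30),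 (27, 30), (29, 30), (9, 31), (12, 31), (14, 31), (17, 31), (19, 31), (20, 31), (23, 31), (24, 31), (25, 31), (26, 31), (27, 31), (28, 31), (29, 31), (12, 32), (16, 32), (18, 32), (22, 32), (24, 32), (26, 32), (27, 32), (28, 32), (29, 32)]
/-- Steps. -/
def steps33 : List (Nat × Nat) := [(0, 1), (1, 2), (2, 3), (1, 5), (4, 5), (3, 6), (4, 6), (1, 7), (3, 7), (4, 7), (2, 8), (5, 8), (7, 8), (3, 9), (5, 9), (7, 9), (6, 10), (7, 10), (8, 10), (4, 11), (7, 11), (10, 11), (6, 12), (7, 12), (8, 12), (9, 12), (4, 13), (7, 13), (9, 13), (12, 13), (7, 14), (10, 14), (11, 14), (3, 15), (4, 15), (10, 15), (12, 15), (13, 15), (14, 15), (4, 16), (8, 16), (9, 16), (11, 16), (12, 16), (14, 16), (8, 17), (9, 17), (10, 17), (11, 17), (13, 17), (5, 18), (7, 18), (11, 18), (12, 18), (13, 18), (15, 18), (16, 18), (17, 18), (7, 19), (10, 19), (14, 19), (15, 19), (16, 19), (17, 19), (10, 20), (12, 20), (13, 20), (14, 20), (7, 21), (12, 21), (14, 21), (15, 21), (16,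 21), (17, 21), (19, 21), (20, 21), (7, 22), (13, 22), (14, 22), (15, 22), (16, 22), (17, 22), (10, 23), (12, 23), (13, 23), (14, 23), (7, 24), (12, 24), (17, 24), (19, 24), (11, 25), (12, 25), (14, 25), (18, 25), (19, 25), (20, 25), (22, 25), (12, 26), (14, 26), (15, 26), (16, 26), (17, 26), (22, 26), (7, 27), (13, 27), (15, 27), (16, 27), (17, 27), (18, 27), (20, 27), (23, 27), (24, 27), (25, 27), (26, 27), (10, 28), (12, 28), (13, 28), (14, 28), (21, 28)]
/-- Steps. -/
def steps34 : List (Nat × Nat) := []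
/-- Steps. -/
def steps35 : List (Nat × Nat) := [(0, 1), (1, 2), (2, 3), (1, 5), (4, 5), (3, 6), (4, 6), (1, 7), (3, 7), (4, 7), (2, 8), (5, 8), (7, 8), (3, 9), (5, 9), (7, 9), (6, 10), (7, 10), (8, 10), (4, 11), (7, 11), (10, 11), (6, 12), (7, 12), (8, 12), (9, 12), (4, 13), (7, 13), (9, 13), (12, 13), (7, 14), (10, 14), (11, 14), (3, 15), (4, 15), (10, 15), (12, 15), (13, 15), (14, 15), (4, 16), (8, 16), (9, 16), (11, 16), (12, 16), (14, 16), (8, 17), (9, 17), (10, 17), (11, 17), (13, 17), (5, 18), (7, 18), (11, 18), (12, 18), (13, 18), (15, 18), (16, 18), (17, 18), (7, 19), (10, 19), (14, 19), (15, 19), (16, 19), (17, 19), (10, 20), (12, 20), (13, 20), (14, 20), (7, 21), (12, 21), (14, 21), (15, 21), (16, 21), (17, 21), (19, 21), (20, 21), (7, 22), (13, 22), (14, 22), (15, 22), (16, 22), (17, 22), (10, 23), (12, 23), (13, 23), (14, 23), (7, 24), (12, 24), (15, 24), (16, 24), (17, 24), (19, 24), (20, 24), (23, 24), (8, 25), (11, 25), (12,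 25), (14, 25), (18, 25), (19, 25), (20, 25), (22, 25), (12, 26), (14, 26), (15, 26), (16, 26), (17, 26), (22, 26), (23, 26), (7, 27), (13, 27), (15, 27), (16, 27), (17, 27), (18, 27), (20, 27), (23, 27), (24, 27), (25, 27)]
/-- Steps. -/
def steps36 : List (Nat × Nat) := [(0, 1), (1, 2), (2, 3), (1, 5), (4, 5), (1, 6), (3, 6), (4, 6), (3, 7), (4, 7), (2, 8), (5, 8), (6, 8), (3, 9), (5, 9), (6, 9), (6, 10), (7, 10), (8, 10), (4, 11), (6, 11), (10, 11), (6, 12), (7, 12), (8, 12), (9, 12), (3, 13), (4, 13), (12, 13), (4, 14), (7, 14), (8, 14), (11, 14), (12, 14), (7, 15), (8, 15), (9, 15), (10, 15), (11, 15), (4, 16), (9, 16), (12, 16), (13, 16), (15, 16), (10, 17), (11, 17), (13, 17), (14, 17), (5, 18), (6, 18), (11, 18), (12, 18), (13, 18), (15, 18), (16, 18), (6, 19), (10, 19), (13, 19), (14, 19), (15, 19), (17, 19), (12, 20), (16, 20), (17, 20), (12, 21), (17, 21), (19, 21), (6, 22), (13, 22), (15, 22), (16, 22), (17, 22), (12, 23), (17,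 23), (7, 24), (12, 24), (16, 24), (17, 24), (12, 25), (15, 25), (19, 25), (12, 26), (17, 26), (22, 26), (6, 27), (13, 27), (14, 27), (15, 27), (16, 27), (18, 27), (20, 27), (23, 27), (24, 27), (26, 27), (12, 28), (16, 28), (17, 28), (26, 28), (15, 29), (7, 30), (9, 30), (16, 30), (18, 30), (19, 30), (20, 30), (22, 30), (23, 30), (25, 30), (26, 30), (14, 31), (18, 31), (23, 31), (24, 31), (13, 32), (14, 32), (15, 32), (16, 32), (22, 32), (23, 32)]
/-- Steps. -/
def steps37 : List (Nat × Nat) := [(0, 1), (1, 2), (2, 3), (1, 5), (4, 5), (1, 6), (3, 6), (4, 6), (1, 7), (3, 7), (4, 7), (2, 8), (5, 8), (6, 8), (7, 8), (3, 9), (5, 9), (6, 9), (7, 9), (6, 10), (7, 10), (8, 10), (4, 11), (6, 11), (7, 11), (10, 11), (6, 12), (7, 12), (8, 12), (9, 12), (3, 13), (4, 13), (7, 13), (12, 13), (4, 14), (7, 14), (8, 14), (11, 14), (12, 14), (7, 15), (8, 15), (9, 15), (10, 15), (11, 15), (3, 16), (4, 16), (10, 16), (12, 16), (14, 16), (4, 17), (8, 17), (9,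 17), (11, 17), (12, 17), (13, 17), (15, 17), (8, 18), (9, 18), (10, 18), (11, 18), (14, 18), (5, 19), (6, 19), (7, 19), (11, 19), (12, 19), (13, 19), (15, 19), (16, 19), (17, 19), (18, 19), (6, 20), (7, 20), (10, 20), (13, 20), (14, 20), (15, 20), (16, 20), (17, 20), (18, 20), (7, 21), (12, 21), (16, 21), (17, 21), (10, 22), (12, 22), (14, 22), (7, 23), (12, 23), (16, 23), (17, 23), (18, 23), (20, 23), (22, 23), (6, 24), (7, 24), (13, 24), (16, 24), (17, 24), (7, 25), (12, 25), (16, 25), (17, 25), (10, 26), (12, 26), (14, 26), (7, 27), (12, 27), (16, 27), (17, 27), (18, 27), (22, 27), (26, 27), (8, 28), (11, 28), (12, 28), (13, 28), (15, 28), (19, 28)]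
/-- Steps. -/
def steps38 : List (Nat × Nat) := [(0, 1), (1, 2), (2, 3), (1, 5), (4, 5), (1, 6), (3, 6), (4, 6), (1, 7), (3, 7), (4, 7), (2, 8), (5, 8), (6, 8), (7, 8), (3, 9), (6, 9), (6, 10), (7, 10), (8, 10), (4, 11), (6, 11), (10, 11), (6, 12), (7, 12), (8, 12), (9, 12), (3, 13), (4, 13), (7, 13), (12, 13), (4, 14), (7, 14), (8, 14), (11, 14), (12, 14), (7, 15), (8, 15), (9, 15), (10, 15), (11, 15), (3, 16), (4, 16), (15, 16), (4, 17), (12, 17), (15, 17), (10, 18), (13, 18), (14, 18), (6, 19), (13, 19), (15, 19), (6, 20), (13, 20), (14, 20), (15, 20), (7, 21), (12, 21), (16, 21), (18, 21), (15, 22), (12, 23), (12, 24), (18, 24), (7, 25), (12, 25), (18, 25), (12, 26), (15, 26), (12, 27), (6, 28), (13, 28), (14, 28), (15, 28), (21, 28), (24, 28), (25, 28), (26, 28), (12, 29), (18, 29), (15, 30), (7, 31), (8, 31), (9, 31), (16, 31), (17, 31), (18, 31), (19, 31), (20, 31), (21, 31), (22, 31), (24, 31), (26, 31), (27, 31), (13, 32), (14, 32),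 (21, 32), (24, 32), (25, 32), (27, 32), (29, 32), (13, 33), (14, 33), (15, 33), (24, 33), (25, 33), (29, 33), (13, 34), (14, 34), (15, 34), (21, 34), (25, 34), (29, 34), (4, 35), (12, 35), (15, 35), (18, 35), (28, 35)]
/-- Steps. -/
def steps39 : List (Nat × Nat) := [(0, 1), (1, 2), (2, 3), (1, 5), (4, 5), (1, 6), (3, 6), (4, 6), (1, 7), (3, 7), (4, 7), (2, 8), (5, 8), (6, 8), (7, 8), (3, 9), (5, 9), (6, 9), (7, 9), (6, 10), (7, 10), (8, 10), (4, 11), (6, 11), (7, 11), (10, 11), (6, 12), (7, 12), (8, 12), (9, 12), (3, 13), (4, 13), (7, 13), (12, 13), (4, 14), (7, 14), (8, 14), (11, 14), (12, 14), (7, 15), (8, 15), (9, 15), (10, 15), (11, 15), (3, 16), (4, 16), (10, 16), (12, 16), (14, 16), (15, 16), (4, 17), (8, 17), (9, 17), (11, 17), (12, 17), (13, 17), (15, 17), (8, 18), (9, 18), (10, 18), (11, 18), (13, 18), (14, 18), (5, 19), (6, 19), (7, 19), (11, 19), (12, 19), (13, 19), (15, 19), (16, 19), (17, 19), (18, 19), (6, 20), (7, 20), (10,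 20), (13, 20), (14, 20), (15, 20), (16, 20), (17, 20), (18, 20), (7, 21), (12, 21), (16, 21), (17, 21), (18, 21), (10, 22), (12, 22), (14, 22), (15, 22), (7, 23), (12, 23), (16, 23), (17, 23), (18, 23), (20, 23), (22, 23), (6, 24), (7, 24), (13, 24), (15, 24), (16, 24), (17, 24), (18, 24), (7, 25), (12, 25), (16, 25), (17, 25), (18, 25), (10, 26), (12, 26), (14, 26), (15, 26), (7, 27), (12, 27), (18, 27), (26, 27), (8, 28)]
/-- Steps. -/
def steps40 : List (Nat × Nat) := [(0, 1), (1, 2), (2, 3), (1, 5), (4, 5), (1, 6), (3, 6), (4, 6), (3, 7), (4, 7), (2, 8), (5, 8), (6, 8), (3, 9), (5, 9), (6, 9), (6, 10), (7, 10), (8, 10), (4, 11), (6, 11), (10, 11), (6, 12), (7, 12), (8, 12), (9, 12), (3, 13), (4, 13), (10, 13), (4, 14), (7, 14), (8, 14), (9, 14), (11, 14), (12, 14), (7, 15), (8, 15), (9, 15), (10, 15), (4, 16), (9, 16), (12, 16), (13, 16), (15, 16), (10, 17), (11, 17), (13, 17), (14, 17), (5, 18), (6, 18), (11, 18), (12, 18), (13, 18),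 (14, 18), (15, 18), (16, 18), (6, 19), (10, 19), (13, 19), (14, 19), (17, 19), (10, 20), (16, 20), (17, 20), (6, 21), (12, 21), (13, 21), (14, 21), (15, 21), (17, 21), (19, 21), (20, 21), (6, 22), (13, 22), (14, 22), (16, 22), (17, 22), (10, 23), (16, 23), (17, 23), (7, 24), (11, 24), (12, 24), (17, 24), (18, 24), (19, 24), (20, 24), (22, 24), (12, 25), (15, 25), (19, 25), (12, 26), (13, 26), (14, 26), (15, 26), (17, 26), (22, 26), (16, 27), (18, 27), (24, 27), (26, 27), (10, 28), (16, 28), (21, 28), (24, 28), (25, 28), (26, 28), (13, 29), (14, 29), (15, 29), (20, 29), (23, 29), (7, 30), (16, 30), (17, 30), (21, 30), (25, 30), (26, 30), (29, 30)]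
/-- Steps. -/
def steps41 : List (Nat × Nat) := [(0, 1), (1, 2), (2, 3), (1, 5), (4, 5), (1, 6), (3, 6), (4, 6), (1, 7), (3, 7), (4, 7), (2, 8), (5, 8), (6, 8), (7, 8), (3, 9), (5, 9), (6, 9), (7, 9), (6, 10), (7, 10), (8, 10), (4, 11), (6, 11), (7, 11), (10, 11), (6, 12), (7, 12), (8, 12), (9, 12), (3, 13), (4, 13), (7, 13), (10, 13), (4, 14), (7, 14), (8, 14), (9, 14), (11, 14), (12, 14), (7, 15), (8, 15), (9, 15), (10, 15), (3, 16), (4, 16), (10, 16), (12, 16), (14, 16), (15, 16), (4, 17), (8, 17), (9, 17), (11, 17), (12, 17), (13, 17), (15, 17), (8, 18), (9, 18), (10, 18), (11, 18), (13, 18), (14, 18), (5, 19), (6, 19), (7, 19), (11, 19), (12, 19), (13, 19), (14, 19), (15, 19), (16, 19), (17, 19), (18, 19), (6, 20), (7, 20), (10, 20), (13, 20), (14, 20), (16, 20), (17, 20), (18, 20), (7, 21), (10, 21), (16, 21), (17, 21), (18, 21), (10, 22), (12, 22), (14, 22), (15, 22), (6, 23), (7, 23), (12, 23), (13, 23), (14, 23), (15, 23), (16, 23),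 (17, 23), (18, 23), (20, 23), (21, 23), (22, 23), (6, 24), (7, 24), (13, 24), (14, 24), (16, 24), (17, 24), (18, 24), (7, 25), (10, 25), (16, 25), (18, 25), (10, 26), (12, 26), (15, 26), (7, 27), (8, 27)]
/-- Steps. -/
def steps42 : List (Nat × Nat) := [(0, 1), (1, 2), (2, 3), (1, 5), (4, 5), (1, 6), (3, 6), (4, 6), (1, 7), (3, 7), (4, 7), (2, 8), (5, 8), (6, 8), (7, 8), (3, 9), (6, 9), (6, 10), (7, 10), (8, 10), (4, 11), (6, 11), (10, 11), (6, 12), (7, 12), (8, 12), (9, 12), (3, 13), (4, 13), (7, 13), (10, 13), (4, 14), (7, 14), (8, 14), (9, 14), (11, 14), (12, 14), (7, 15), (8, 15), (9, 15), (10, 15), (3, 16), (4, 16), (14, 16), (4, 17), (12, 17), (13, 17), (15, 17), (10, 18), (14, 18), (6, 19), (13, 19), (14, 19), (15, 19), (6, 20), (13, 20), (14, 20), (7, 21), (10, 21), (16, 21), (17, 21), (14, 22), (6, 23), (12, 23), (13, 23), (14, 23), (15, 23), (21, 23), (10, 24), (17, 24), (7, 25), (8, 25), (11, 25), (12, 25), (16, 25), (17, 25), (18,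 25), (19, 25), (20, 25), (21, 25), (22, 25), (12, 26), (13, 26), (15, 26), (21, 26), (24, 26), (12, 27), (13, 27), (14, 27), (15, 27), (24, 27), (25, 28), (26, 28), (10, 29), (17, 29), (23, 29), (25, 29), (26, 29), (27, 29), (13, 30), (14, 30), (15, 30), (21, 30), (24, 30), (7, 31), (17, 31), (23, 31), (26, 31), (27, 31), (30, 31), (14, 32), (25, 32), (27, 32), (25, 33), (4, 35), (7, 35), (15, 35), (16, 35), (17, 35)]
/-- Steps. -/
def steps43 : List (Nat × Nat) := [(0, 1), (1, 2), (2, 3), (1, 5), (4, 5), (1, 6), (3, 6), (4, 6), (1, 7), (3, 7), (4, 7), (2, 8), (5, 8), (6, 8), (7, 8), (3, 9), (5, 9), (6, 9), (7, 9), (6, 10), (7, 10), (8, 10), (4, 11), (6, 11), (7, 11), (10, 11), (6, 12), (7, 12), (8, 12), (9, 12), (3, 13), (4, 13), (7, 13), (10, 13), (4, 14), (7, 14), (8, 14), (9, 14), (11, 14), (12, 14), (7, 15), (8, 15), (9, 15), (10, 15), (3, 16), (4, 16), (10, 16), (12, 16), (15, 16), (4, 17), (8, 17), (9, 17), (11, 17), (12, 17), (15,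 17), (8, 18), (9, 18), (10, 18), (11, 18), (13, 18), (14, 18), (5, 19), (6, 19), (7, 19), (11, 19), (12, 19), (13, 19), (14, 19), (15, 19), (16, 19), (17, 19), (18, 19), (6, 20), (7, 20), (10, 20), (13, 20), (14, 20), (16, 20), (17, 20), (18, 20), (7, 21), (10, 21), (16, 21), (18, 21), (10, 22), (12, 22), (15, 22), (6, 23), (7, 23), (12, 23), (13, 23), (14, 23), (15, 23), (16, 23), (17, 23), (18, 23), (20, 23), (21, 23), (22, 23), (6, 24), (7, 24), (13, 24), (16, 24), (18, 24), (7, 25), (10, 25), (16, 25), (17, 25), (18, 25), (10, 26), (14, 26), (7, 27), (8, 27), (11, 27), (12, 27), (17, 27), (18, 27), (19, 27), (21, 27)]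
/-- Steps. -/
def steps44 : List (Nat × Nat) := [(0, 1), (1, 2), (2, 3), (1, 5), (4, 5), (1, 6), (3, 6), (4, 6), (3, 7), (4, 7), (2, 8), (5, 8), (6, 8), (3, 9), (5, 9), (6, 9), (6, 10), (7, 10), (8, 10), (4, 11), (6, 11), (10, 11), (6, 12), (7, 12), (8, 12), (9, 12), (3, 13), (4, 13), (10, 13), (12, 13), (4, 14), (7, 14), (8, 14), (9, 14), (11, 14), (12, 14), (7, 15), (8, 15), (9, 15), (10, 15), (11, 15), (4, 16), (9, 16), (12, 16), (13, 16), (15, 16), (10, 17), (11, 17), (13, 17), (14, 17), (5, 18), (6, 18), (11, 18), (12, 18), (13, 18), (14, 18), (15, 18), (16, 18), (6, 19), (10, 19), (13, 19), (14, 19), (15, 19), (17, 19), (10, 20), (12, 20), (16, 20), (17, 20), (6, 21), (12, 21), (13, 21), (14, 21), (15, 21), (17, 21), (19, 21), (20, 21), (6, 22), (13, 22), (14, 22), (15, 22), (16, 22), (17, 22), (10, 23), (12, 23), (16, 23), (17, 23), (7, 24), (8, 24), (12, 24), (17, 24), (18, 24), (19, 24), (20, 24), (22, 24), (12, 25), (15, 25), (19,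 25), (20, 25), (23, 25), (12, 26), (13, 26), (14, 26), (15, 26), (17, 26), (22, 26), (23, 26), (6, 27), (13, 27), (14, 27), (15, 27), (16, 27), (18, 27), (20, 27), (23, 27), (26, 27), (10, 28), (12, 28), (16, 28), (17, 28)]
/-- Steps. -/
def steps45 : List (Nat × Nat) := [(0, 1), (1, 2), (2, 3), (1, 5), (4, 5), (1, 6), (3, 6), (4, 6), (1, 7), (3, 7), (4, 7), (2, 8), (5, 8), (6, 8), (7, 8), (3, 9), (5, 9), (6, 9), (7, 9), (6, 10), (7, 10), (8, 10), (4, 11), (10, 11), (6, 12), (7, 12), (8, 12), (9, 12), (3, 13), (4, 13), (10, 13), (12, 13), (4, 14), (7, 14), (8, 14), (9, 14), (11, 14), (12, 14), (7, 15), (8, 15), (9, 15), (10, 15), (11, 15), (3, 16), (4, 16), (10, 16), (12, 16), (15, 16), (4, 17), (9, 17), (12, 17), (15, 17), (8, 18), (9, 18), (10, 18), (11, 18), (13, 18), (14, 18), (5, 19), (6, 19), (7, 19), (11, 19), (12, 19), (13, 19), (14, 19), (15, 19), (16, 19), (17, 19), (18, 19), (10, 20), (15, 20), (18, 20), (10, 21), (12, 21), (18,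 21), (10, 22), (12, 22), (15, 22), (6, 23), (7, 23), (12, 23), (13, 23), (14, 23), (15, 23), (16, 23), (17, 23), (18, 23), (20, 23), (21, 23), (22, 23), (14, 24), (15, 24), (17, 24), (18, 24), (10, 25), (12, 25), (17, 25), (18, 25), (10, 26), (12, 26), (14, 26), (15, 26), (7, 27), (8, 27), (11, 27), (12, 27), (17, 27), (18, 27), (19, 27), (20, 27), (21, 27), (22, 27), (24, 27), (8, 28), (11, 28), (12, 28), (15, 28), (20, 28), (21, 28)]
/-- Steps. -/
def steps46 : List (Nat × Nat) := [(0, 1), (1, 2), (2, 3), (1, 5), (4, 5), (1, 6), (3, 6), (4, 6), (1, 7), (3, 7), (4, 7), (2, 8), (5, 8), (6, 8), (7, 8), (3, 9), (6, 9), (6, 10), (7, 10), (8, 10), (4, 11), (6, 11), (10, 11), (6, 12), (7, 12), (8, 12), (9, 12), (3, 13), (4, 13), (7, 13), (10, 13), (12, 13), (4, 14), (7, 14), (8, 14), (9, 14), (11, 14), (12, 14), (7, 15), (8, 15), (9, 15), (10, 15), (11, 15), (3, 16), (4, 16), (14, 16), (15, 16), (4, 17), (12, 17), (13, 17), (15, 17), (10, 18),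 (13, 18), (14, 18), (6, 19), (13, 19), (14, 19), (15, 19), (6, 20), (13, 20), (14, 20), (15, 20), (7, 21), (10, 21), (12, 21), (16, 21), (17, 21), (18, 21), (14, 22), (15, 22), (6, 23), (12, 23), (13, 23), (14, 23), (15, 23), (21, 23), (10, 24), (12, 24), (17, 24), (18, 24), (7, 25), (8, 25), (11, 25), (12, 25), (16, 25), (17, 25), (18, 25), (19, 25), (20, 25), (21, 25), (22, 25), (12, 26), (13, 26), (15, 26), (21, 26), (24, 26), (12, 27), (13, 27), (14, 27), (15, 27), (24, 27), (6, 28), (13, 28), (14, 28), (15, 28), (21, 28), (24, 28), (26, 28), (10, 29), (12, 29), (17, 29), (18, 29), (23, 29), (25, 29), (26, 29), (27, 29), (13, 30), (14, 30), (21, 30)]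
/-- Steps. -/
def steps47 : List (Nat × Nat) := [(0, 1), (1, 2), (2, 3), (1, 5), (4, 5), (1, 6), (3, 6), (4, 6), (1, 7), (3, 7), (4, 7), (2, 8), (5, 8), (6, 8), (7, 8), (3, 9), (5, 9), (6, 10), (7, 10), (8, 10), (4, 11), (6, 11), (7, 11), (10, 11), (6, 12), (7, 12), (8, 12), (9, 12), (3, 13), (4, 13), (10, 13), (12, 13), (4, 14), (7, 14), (8, 14), (9, 14), (11, 14), (12, 14), (7, 15), (8, 15), (9, 15), (10, 15), (11, 15), (3, 16), (4, 16), (10, 16), (12, 16), (14, 16), (4, 17), (8, 17), (9, 17), (11, 17), (12, 17), (13, 17), (15, 17), (10, 18), (11, 18), (14, 18), (5, 19), (11, 19), (12, 19), (14, 19), (17, 19), (6, 20), (7, 20), (10, 20), (13, 20), (14, 20), (15, 20), (16, 20), (17, 20), (18, 20), (10, 21), (12, 21), (17, 21), (10, 22), (12, 22), (14, 22), (12, 23), (13, 23), (15, 23), (16, 23), (18, 23), (20, 23), (14, 24), (15, 24), (17, 24), (18, 24), (7, 25), (8, 25), (11, 25), (12, 25), (17, 25), (18, 25), (20, 25), (24, 25), (8, 26),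 (11, 26), (12, 26), (15, 26), (20, 26), (24, 26), (12, 27), (15, 27), (18, 27), (24, 27), (6, 28), (7, 28), (13, 28), (14, 28), (15, 28), (16, 28), (17, 28), (18, 28), (19, 28), (21, 28), (22, 28), (26, 28), (27, 28)]
/-- Steps. -/
def steps48 : List (Nat × Nat) := []
/-- Steps. -/
def steps49 : List (Nat × Nat) := [(0, 1), (1, 2), (2, 3), (1, 5), (4, 5), (3, 6), (4, 6), (1, 7), (3, 7), (4, 7), (2, 8), (5, 8), (7, 8), (3, 9), (5, 9), (7, 9), (6, 10), (7, 10), (8, 10), (4, 11), (7, 11), (10, 11), (6, 12), (7, 12), (8, 12), (9, 12), (4, 13), (7, 13), (9, 13), (12, 13), (7, 14), (10, 14), (11, 14), (3, 15), (4, 15), (10, 15), (12, 15), (13, 15), (14, 15), (4, 16), (8, 16), (9, 16), (11, 16), (12, 16), (14, 16), (8, 17), (9, 17), (10, 17), (11, 17), (13, 17), (5, 18), (7, 18), (11, 18), (12, 18), (13, 18), (15, 18), (16, 18), (17, 18), (7, 19), (10, 19), (14, 19), (15, 19), (16, 19), (17, 19), (10, 20), (12, 20), (13, 20), (14, 20), (7, 21), (12,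 21), (14, 21), (15, 21), (16, 21), (17, 21), (19, 21), (20, 21), (7, 22), (13, 22), (14, 22), (15, 22), (16, 22), (17, 22), (10, 23), (12, 23), (13, 23), (14, 23), (7, 24), (12, 24), (17, 24), (19, 24), (11, 25), (12, 25), (14, 25), (18, 25), (19, 25), (20, 25), (22, 25), (12, 26), (14, 26), (15, 26), (16, 26), (17, 26), (22, 26), (7, 27), (13, 27), (15, 27), (16, 27), (17, 27), (18, 27), (20, 27), (23, 27), (24, 27), (26, 27), (10, 28), (12, 28), (13, 28), (14, 28), (21, 28), (24, 28)]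
/-- Steps. -/
def steps50 : List (Nat × Nat) := [(0, 1), (1, 2), (2, 3), (1, 5), (4, 5), (3, 6), (4, 6), (1, 7), (3, 7), (4, 7), (2, 8), (5, 8), (7, 8), (3, 9), (5, 9), (7, 9), (6, 10), (7, 10), (8, 10), (4, 11), (7, 11), (10, 11), (6, 12), (7, 12), (8, 12), (9, 12), (4, 13), (7, 13), (9, 13), (12, 13), (7, 14), (10, 14), (11, 14), (3, 15), (4, 15), (12, 15), (13, 15), (14, 15), (4, 16), (8, 16), (11, 16), (12, 16), (14, 16), (8, 17), (9, 17), (10, 17), (11, 17), (13, 17), (5, 18), (7, 18), (11, 18), (12, 18), (13, 18), (15, 18), (17, 18), (7, 19), (10, 19), (14, 19), (15, 19), (16, 19), (17, 19), (12, 20), (13, 20), (14, 20), (12, 21), (14, 21), (19, 21), (7, 22), (13, 22), (14, 22), (15, 22), (17, 22), (12, 23), (14, 23), (7, 24), (12, 24), (16, 24), (17, 24), (19, 24), (12, 25), (14, 25), (12, 26), (14, 26), (22, 26), (7, 27), (13, 27), (15, 27), (16, 27), (17, 27), (18, 27), (20, 27), (23, 27), (24, 27), (25, 27), (26, 27), (12, 28), (13,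 28), (14, 28), (26, 28), (14, 29), (17, 29), (7, 30), (15, 30), (16, 30), (17, 30), (18, 30), (20, 30), (21, 30), (23, 30), (25, 30), (26, 30), (28, 30), (29, 30), (8, 31), (9, 31), (13, 31), (18, 31), (19, 31), (20, 31)]
/-- Steps. -/
def steps51 : List (Nat × Nat) := [(0, 1), (1, 2), (2, 3), (1, 5), (4, 5), (3, 6), (4, 6), (1, 7), (3, 7), (4, 7), (2, 8), (5, 8), (7, 8), (3, 9), (5, 9), (7, 9), (6, 10), (7, 10), (8, 10), (4, 11), (7, 11), (10, 11), (6, 12), (7, 12), (8, 12), (9, 12), (4, 13), (7, 13), (9, 13), (12, 13), (7, 14), (10, 14), (11, 14), (3, 15), (4, 15), (10, 15), (13, 15), (14, 15), (4, 16), (8, 16), (9, 16), (11, 16), (12, 16), (14, 16), (8, 17), (9, 17), (10, 17), (13, 17), (5, 18), (7, 18), (11, 18), (12, 18), (13, 18), (15, 18), (16, 18), (17, 18), (7, 19), (10, 19), (14, 19), (15, 19), (16, 19), (10, 20), (13, 20), (14, 20), (7, 21), (12, 21), (14, 21), (15, 21), (16, 21), (17, 21), (19, 21), (20, 21), (7, 22), (13, 22),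 (14, 22), (15, 22), (16, 22), (10, 23), (13, 23), (14, 23), (7, 24), (12, 24), (15, 24), (16, 24), (17, 24), (19, 24), (20, 24), (23, 24), (8, 25), (11, 25), (12, 25), (14, 25), (18, 25), (19, 25), (20, 25), (22, 25), (12, 26), (14, 26), (15, 26), (16, 26), (17, 26), (22, 26), (23, 26), (13, 27), (18, 27), (24, 27), (25, 27), (26, 27), (10, 28), (21, 28), (24, 28), (25, 28), (14, 29), (15, 29), (16, 29), (17, 29), (20, 29), (23, 29), (7, 30)]
/-- Steps. -/
def steps52 : List (Nat × Nat) := [(0, 1), (1, 2), (2, 3), (1, 5), (4, 5), (1, 6), (3, 6), (4, 6), (3, 7), (4, 7), (2, 8), (5, 8), (6, 8), (3, 9), (5, 9), (6, 9), (6, 10), (7, 10), (8, 10), (4, 11), (6, 11), (10, 11), (6, 12), (7, 12), (8, 12), (9, 12), (3, 13), (4, 13), (12, 13), (4, 14), (7, 14), (8, 14), (11, 14), (12, 14), (7, 15), (8, 15), (9, 15), (10, 15), (11, 15), (4, 16), (9, 16), (12, 16), (13, 16), (15, 16), (10, 17), (11, 17), (13, 17), (14, 17), (5, 18), (6, 18), (11, 18),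 (12, 18), (13, 18), (15, 18), (16, 18), (6, 19), (10, 19), (13, 19), (14, 19), (15, 19), (17, 19), (12, 20), (16, 20), (17, 20), (12, 21), (17, 21), (19, 21), (6, 22), (13, 22), (15, 22), (16, 22), (17, 22), (12, 23), (17, 23), (7, 24), (12, 24), (16, 24), (17, 24), (12, 25), (15, 25), (19, 25), (12, 26), (17, 26), (22, 26), (6, 27), (13, 27), (14, 27), (15, 27), (16, 27), (18, 27), (20, 27), (23, 27), (24, 27), (25, 27), (26, 27), (12, 28), (16, 28), (17, 28), (26, 28), (15, 29), (17, 29), (7, 30), (8, 30), (9, 30), (16, 30), (17, 30), (18, 30), (19, 30), (20, 30), (22, 30), (23, 30), (25, 30), (26, 30), (13, 31), (14, 31), (18, 31), (20, 31), (21, 31), (23, 31)]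
/-- Steps. -/
def steps53 : List (Nat × Nat) := [(0, 1), (1, 2), (2, 3), (1, 5), (4, 5), (1, 6), (3, 6), (4, 6), (1, 7), (3, 7), (4, 7), (2, 8), (5, 8), (6, 8), (7, 8), (3, 9), (5, 9), (6, 9), (7, 9), (6, 10), (7, 10), (8, 10), (4, 11), (6, 11), (7, 11), (10, 11), (6, 12), (7, 12), (8, 12), (9, 12), (3, 13), (4, 13), (7, 13), (12, 13), (4, 14), (7, 14), (8, 14), (11, 14), (12, 14), (7, 15), (8, 15), (9, 15), (10, 15), (11, 15), (3, 16), (4, 16), (10, 16), (12, 16), (14, 16), (4, 17), (8, 17), (9, 17), (11, 17), (12, 17), (13, 17), (15, 17), (8, 18), (9, 18), (10, 18), (11, 18), (14, 18), (5, 19), (6, 19), (7, 19), (11, 19), (12, 19), (13, 19), (15, 19), (16, 19), (17, 19), (18, 19), (6, 20), (7, 20), (10, 20), (13, 20), (14, 20), (15, 20), (16, 20), (17, 20), (18, 20), (7, 21), (12, 21), (16, 21), (17, 21), (10, 22), (12, 22), (14, 22), (7, 23), (12, 23), (16, 23), (17, 23), (18, 23), (20, 23), (22, 23), (6, 24), (7, 24), (13, 24), (15, 24),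 (16, 24), (17, 24), (18, 24), (7, 25), (12, 25), (16, 25), (17, 25), (10, 26), (12, 26), (14, 26), (7, 27), (12, 27), (18, 27), (26, 27), (8, 28), (11, 28), (12, 28), (13, 28), (15, 28), (19, 28), (20, 28)]
/-- Steps. -/
def steps54 : List (Nat × Nat) := [(0, 1), (1, 2), (2, 3), (1, 5), (4, 5), (1, 6), (3, 6), (4, 6), (1, 7), (3, 7), (4, 7), (2, 8), (5, 8), (6, 8), (7, 8), (3, 9), (5, 9), (6, 9), (7, 9), (6, 10), (7, 10), (8, 10), (4, 11), (10, 11), (6, 12), (7, 12), (8, 12), (9, 12), (3, 13), (4, 13), (12, 13), (4, 14), (7, 14), (8, 14), (11, 14), (12, 14), (7, 15), (8, 15), (9, 15), (10, 15), (11, 15), (3, 16), (4, 16), (12, 16), (15, 16), (4, 17), (12, 17), (15, 17), (8, 18), (9, 18), (10, 18), (11, 18), (13, 18), (14, 18), (5, 19), (6, 19), (7, 19), (11, 19), (12, 19), (13, 19), (15, 19), (16, 19), (18, 19), (10, 20), (15, 20), (18, 20), (12, 21), (18, 21), (12, 22), (15, 22), (12, 23), (20, 23), (15, 24), (18, 24), (12, 25), (18, 25),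 (12, 26), (15, 26), (12, 27), (18, 27), (12, 28), (15, 28), (12, 29), (13, 30), (14, 30), (16, 30), (17, 30), (19, 30), (25, 30), (26, 30), (27, 30), (28, 30), (29, 30), (15, 31), (18, 31), (7, 32), (8, 32), (9, 32), (17, 32), (18, 32), (19, 32), (24, 32), (25, 32), (28, 32), (29, 32), (8, 33), (9, 33), (14, 33), (19, 33), (24, 33), (26, 33), (27, 33), (29, 33), (14, 34), (17, 34), (24, 34), (25, 34), (26, 34), (27, 34)]
/-- Steps. -/
def steps55 : List (Nat × Nat) := [(0, 1), (1, 2), (2, 3), (1, 5), (4, 5), (1, 6), (3, 6), (4, 6), (1, 7), (3, 7), (4, 7), (2, 8), (5, 8), (6, 8), (7, 8), (3, 9), (5, 9), (6, 9), (7, 9), (6, 10), (7, 10), (8, 10), (4, 11), (6, 11), (7, 11), (10, 11), (6, 12), (7, 12), (8, 12), (9, 12), (3, 13), (4, 13), (7, 13), (12, 13), (4, 14), (7, 14), (8, 14), (11, 14), (12, 14), (7, 15), (8, 15), (9, 15), (10, 15), (11, 15), (3, 16), (4, 16), (10, 16), (14, 16), (15, 16), (4, 17), (8, 17), (9, 17), (11, 17), (12, 17), (13,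 17), (15, 17), (8, 18), (9, 18), (10, 18), (13, 18), (14, 18), (5, 19), (6, 19), (7, 19), (11, 19), (12, 19), (13, 19), (15, 19), (16, 19), (17, 19), (18, 19), (6, 20), (7, 20), (10, 20), (13, 20), (14, 20), (15, 20), (16, 20), (17, 20), (7, 21), (12, 21), (16, 21), (17, 21), (18, 21), (10, 22), (14, 22), (15, 22), (7, 23), (12, 23), (16, 23), (17, 23), (18, 23), (20, 23), (22, 23), (6, 24), (7, 24), (13, 24), (15, 24), (16, 24), (17, 24), (7, 25), (16, 25), (17, 25), (10, 26), (14, 26), (15, 26), (7, 27), (12, 27), (16, 27), (17, 27), (18, 27), (22, 27), (26, 27), (8, 28), (11, 28), (12, 28), (13, 28), (15, 28), (19, 28)]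
/-- Steps. -/
def steps56 : List (Nat × Nat) := [(0, 1), (1, 2), (2, 3), (1, 5), (4, 5), (1, 6), (3, 6), (4, 6), (3, 7), (4, 7), (2, 8), (5, 8), (6, 8), (3, 9), (5, 9), (6, 9), (6, 10), (7, 10), (8, 10), (4, 11), (6, 11), (10, 11), (6, 12), (7, 12), (8, 12), (9, 12), (3, 13), (4, 13), (10, 13), (12, 13), (4, 14), (7, 14), (8, 14), (9, 14), (11, 14), (12, 14), (7, 15), (8, 15), (9, 15), (10, 15), (11, 15), (4, 16), (9, 16), (12, 16), (13, 16), (15, 16), (10, 17), (11, 17), (13, 17), (14, 17), (5, 18), (6, 18), (11, 18), (12, 18), (13, 18), (14, 18), (15, 18), (16, 18), (6, 19), (10, 19), (13, 19), (14, 19), (15, 19), (17, 19), (10, 20), (12, 20), (16, 20), (17, 20), (6, 21), (12, 21), (13, 21), (14, 21), (15, 21), (17, 21), (19, 21), (20, 21), (6, 22), (13, 22), (14, 22), (15, 22), (16, 22), (17, 22), (10, 23), (12, 23), (16, 23), (17, 23), (7, 24), (11, 24), (12, 24), (17, 24), (18, 24), (19, 24), (20, 24), (22, 24), (12, 25), (15, 25), (19,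 25), (12, 26), (13, 26), (14, 26), (15, 26), (17, 26), (22, 26), (6, 27), (13, 27), (14, 27), (15, 27), (16, 27), (18, 27), (20, 27), (23, 27), (25, 27), (26, 27), (10, 28), (12, 28), (16, 28), (17, 28), (21, 28), (24, 28)]
/-- Steps. -/
def steps57 : List (Nat × Nat) := [(0, 1), (1, 2), (2, 3), (1, 5), (4, 5), (1, 6), (3, 6), (4, 6), (1, 7), (3, 7), (4, 7), (2, 8), (5, 8), (6, 8), (7, 8), (3, 9), (5, 9), (6, 9), (7, 9), (6, 10), (7, 10), (8, 10), (4, 11), (10, 11), (6, 12), (7, 12), (8, 12), (9, 12), (3, 13), (4, 13), (10, 13), (12, 13), (4, 14), (7, 14), (8, 14), (9, 14), (11, 14), (12, 14), (7, 15), (8, 15), (9, 15), (10, 15), (11, 15), (3, 16), (4, 16), (10, 16), (12, 16), (14, 16), (15, 16), (4, 17), (8, 17), (9, 17), (11, 17), (12, 17), (13, 17), (15, 17), (8, 18), (9, 18), (10, 18), (11, 18), (13, 18), (14, 18), (5, 19), (6, 19), (7, 19), (11, 19), (12, 19), (13, 19), (14, 19), (15, 19), (16, 19), (17, 19), (18, 19), (10, 20), (14,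 20), (15, 20), (17, 20), (18, 20), (10, 21), (12, 21), (17, 21), (18, 21), (10, 22), (12, 22), (14, 22), (15, 22), (6, 23), (7, 23), (12, 23), (13, 23), (15, 23), (16, 23), (18, 23), (20, 23), (21, 23), (22, 23), (14, 24), (15, 24), (17, 24), (18, 24), (10, 25), (12, 25), (18, 25), (10, 26), (12, 26), (15, 26), (7, 27), (8, 27), (11, 27), (12, 27), (17, 27), (18, 27), (19, 27), (20, 27), (21, 27), (8, 28), (11, 28), (12, 28), (15, 28)]
/-- Steps. -/
def steps58 : List (Nat × Nat) := [(0, 1), (1, 2), (2, 3), (1, 5), (4, 5), (1, 6), (3, 6), (4, 6), (1, 7), (3, 7), (4, 7), (2, 8), (5, 8), (6, 8), (7, 8), (3, 9), (5, 9), (6, 9), (7, 9), (6, 10), (7, 10), (8, 10), (4, 11), (6, 11), (7, 11), (10, 11), (6, 12), (7, 12), (8, 12), (9, 12), (3, 13), (4, 13), (7, 13), (10, 13), (12, 13), (4, 14), (7, 14), (8, 14), (9, 14), (11, 14), (12, 14), (7, 15), (8, 15), (9, 15), (10, 15), (11, 15), (3, 16), (4, 16), (12, 16), (14, 16), (4, 17), (8, 17), (11, 17),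 (12, 17), (13, 17), (15, 17), (8, 18), (9, 18), (10, 18), (11, 18), (14, 18), (5, 19), (6, 19), (7, 19), (11, 19), (12, 19), (13, 19), (14, 19), (15, 19), (16, 19), (18, 19), (6, 20), (7, 20), (10, 20), (13, 20), (14, 20), (15, 20), (16, 20), (17, 20), (18, 20), (7, 21), (10, 21), (12, 21), (16, 21), (17, 21), (12, 22), (14, 22), (6, 23), (12, 23), (13, 23), (14, 23), (15, 23), (20, 23), (21, 23), (6, 24), (7, 24), (13, 24), (14, 24), (15, 24), (16, 24), (18, 24), (7, 25), (10, 25), (12, 25), (16, 25), (17, 25), (12, 26), (14, 26), (7, 27), (8, 27), (11, 27), (12, 27), (16, 27), (18, 27), (19, 27), (20, 27), (21, 27), (22, 27), (24, 27)]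
/-- Steps. -/
def steps59 : List (Nat × Nat) := [(0, 1), (1, 2), (2, 3), (1, 5), (4, 5), (1, 6), (3, 6), (4, 6), (1, 7), (3, 7), (4, 7), (2, 8), (5, 8), (6, 8), (7, 8), (3, 9), (5, 9), (6, 9), (7, 9), (6, 10), (7, 10), (8, 10), (4, 11), (6, 11), (7, 11), (10, 11), (6, 12), (7, 12), (8, 12), (9, 12), (3, 13), (4, 13), (7, 13), (10, 13), (12, 13), (4, 14), (7, 14), (8, 14), (9, 14), (11, 14), (12, 14), (7, 15), (8, 15), (9, 15), (10, 15), (11, 15), (3, 16), (4, 16), (10, 16), (15, 16), (4, 17), (8, 17), (9, 17), (11, 17), (12, 17), (15, 17), (8, 18), (9, 18), (10, 18), (13, 18), (14, 18), (5, 19), (6, 19), (7, 19), (11, 19), (12, 19), (13, 19), (14, 19), (15, 19), (16, 19), (17, 19), (18, 19), (6, 20), (7, 20), (10, 20), (13, 20), (14, 20), (15, 20), (16, 20), (17, 20), (7, 21), (10, 21), (12, 21), (16, 21), (18, 21), (10, 22), (15, 22), (6, 23), (7, 23), (12, 23), (13, 23), (14, 23), (15, 23), (16, 23), (17, 23), (18, 23), (20, 23), (21, 23),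 (22, 23), (6, 24), (7, 24), (13, 24), (14, 24), (15, 24), (16, 24), (17, 24), (7, 25), (10, 25), (12, 25), (16, 25), (17, 25), (18, 25), (10, 26), (14, 26), (15, 26), (8, 27), (11, 27), (12, 27), (18, 27)]
/-- Steps. -/
def steps60 : List (Nat × Nat) := [(0, 1), (1, 2), (2, 3), (1, 5), (4, 5), (1, 6), (3, 6), (4, 6), (3, 7), (4, 7), (2, 8), (5, 8), (6, 8), (3, 9), (5, 9), (6, 9), (6, 10), (7, 10), (8, 10), (4, 11), (6, 11), (10, 11), (6, 12), (7, 12), (8, 12), (9, 12), (3, 13), (4, 13), (10, 13), (4, 14), (7, 14), (8, 14), (9, 14), (11, 14), (12, 14), (7, 15), (8, 15), (9, 15), (10, 15), (4, 16), (9, 16), (12, 16), (13, 16), (15, 16), (10, 17), (11, 17), (13, 17), (14, 17), (5, 18), (6, 18), (11, 18), (12, 18), (13, 18), (14, 18), (15, 18), (16, 18), (6, 19), (10, 19), (13, 19), (14, 19), (17, 19), (10, 20), (16, 20), (17, 20), (6, 21), (12, 21), (13, 21), (14, 21), (15, 21), (17, 21), (19, 21), (20, 21), (6, 22), (13, 22), (14, 22), (16,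 22), (17, 22), (10, 23), (16, 23), (17, 23), (7, 24), (8, 24), (11, 24), (12, 24), (16, 24), (17, 24), (18, 24), (19, 24), (20, 24), (22, 24), (12, 25), (13, 25), (15, 25), (19, 25), (20, 25), (23, 25), (12, 26), (13, 26), (14, 26), (15, 26), (17, 26), (22, 26), (23, 26), (16, 27), (18, 27), (24, 27), (25, 27), (26, 27), (10, 28), (21, 28), (24, 28), (25, 28), (13, 29), (14, 29), (15, 29), (17, 29), (20, 29), (23, 29), (7, 30)]
/-- Steps. -/
def steps61 : List (Nat × Nat) := [(0, 1), (1, 2), (2, 3), (1, 5), (4, 5), (1, 6), (3, 6), (4, 6), (1, 7), (3, 7), (4, 7), (2, 8), (5, 8), (6, 8), (7, 8), (3, 9), (5, 9), (6, 9), (7, 9), (6, 10), (7, 10), (8, 10), (4, 11), (6, 11), (7, 11), (10, 11), (6, 12), (7, 12), (8, 12), (9, 12), (3, 13), (4, 13), (7, 13), (10, 13), (4, 14), (7, 14), (8, 14), (9, 14), (11, 14), (12, 14), (7, 15), (8, 15), (9, 15), (10, 15), (3, 16), (4, 16), (10, 16), (12, 16), (15, 16), (4, 17), (8, 17), (9, 17), (11, 17), (12,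 17), (15, 17), (8, 18), (9, 18), (10, 18), (11, 18), (13, 18), (14, 18), (5, 19), (6, 19), (7, 19), (11, 19), (12, 19), (13, 19), (14, 19), (15, 19), (16, 19), (17, 19), (18, 19), (6, 20), (7, 20), (10, 20), (13, 20), (14, 20), (16, 20), (17, 20), (18, 20), (7, 21), (10, 21), (16, 21), (18, 21), (10, 22), (12, 22), (15, 22), (6, 23), (7, 23), (12, 23), (13, 23), (14, 23), (15, 23), (16, 23), (17, 23), (18, 23), (20, 23), (21, 23), (22, 23), (6, 24), (7, 24), (13, 24), (14, 24), (16, 24), (17, 24), (18, 24), (7, 25), (10, 25), (16, 25), (17, 25), (18, 25), (10, 26), (12, 26), (14, 26), (15, 26), (8, 27), (11, 27), (12, 27), (18, 27)]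
/-- Steps. -/
def steps62 : List (Nat × Nat) := [(0, 1), (1, 2), (2, 3), (1, 5), (4, 5), (1, 6), (3, 6), (4, 6), (1, 7), (3, 7), (4, 7), (2, 8), (5, 8), (6, 8), (7, 8), (3, 9), (5, 9), (6, 9), (7, 9), (6, 10), (7, 10), (8, 10), (4, 11), (6, 11), (7, 11), (10, 11), (6, 12), (7, 12), (8, 12), (9, 12), (3, 13), (4, 13), (7, 13), (10, 13), (4, 14), (7, 14), (8, 14), (9, 14), (11, 14), (12, 14), (7, 15), (8, 15), (9, 15), (10, 15), (3, 16), (4, 16), (12, 16), (14, 16), (15, 16), (4, 17), (8, 17), (11, 17), (12, 17), (13, 17), (15, 17), (8, 18), (9, 18), (10, 18), (11, 18), (13, 18), (14, 18), (5, 19), (6, 19), (7, 19), (11, 19), (12, 19), (13, 19), (14, 19), (15, 19), (16, 19), (18, 19), (6, 20), (7, 20), (10, 20), (13, 20), (14, 20), (16, 20), (17, 20), (18, 20), (7, 21), (10, 21), (16, 21), (17, 21), (18, 21), (12, 22), (14, 22), (15, 22), (6, 23), (12, 23), (13, 23), (14, 23), (15, 23), (20, 23), (21, 23), (6, 24), (7, 24), (13, 24), (14, 24),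 (16, 24), (18, 24), (7, 25), (10, 25), (16, 25), (17, 25), (18, 25), (14, 26), (7, 27), (8, 27), (11, 27), (12, 27), (16, 27), (17, 27), (18, 27), (19, 27), (20, 27), (21, 27), (22, 27), (24, 27), (26, 27)]
/-- Steps. -/
def steps63 : List (Nat × Nat) := [(0, 1), (1, 2), (2, 3), (1, 5), (4, 5), (1, 6), (3, 6), (4, 6), (1, 7), (3, 7), (4, 7), (2, 8), (5, 8), (6, 8), (7, 8), (3, 9), (5, 9), (6, 10), (7, 10), (8, 10), (4, 11), (6, 11), (7, 11), (10, 11), (6, 12), (7, 12), (8, 12), (9, 12), (3, 13), (4, 13), (10, 13), (4, 14), (7, 14), (8, 14), (9, 14), (11, 14), (12, 14), (7, 15), (8, 15), (9, 15), (10, 15), (3, 16), (4, 16), (10, 16), (14, 16), (4, 17), (8, 17), (9, 17), (11, 17), (12, 17), (13, 17), (15, 17), (10, 18), (14, 18), (5, 19), (11, 19), (12, 19), (14, 19), (17, 19), (6, 20), (7, 20), (10, 20), (13, 20), (14, 20), (16, 20), (17, 20), (10, 21), (17, 21), (10, 22), (14, 22), (12, 23), (13, 23), (15, 23), (16, 23), (18, 23), (20, 23),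 (14, 24), (17, 24), (7, 25), (8, 25), (11, 25), (12, 25), (17, 25), (18, 25), (20, 25), (24, 25), (8, 26), (11, 26), (12, 26), (15, 26), (20, 26), (24, 26), (12, 27), (15, 27), (18, 27), (24, 27), (19, 28), (25, 28), (26, 28), (27, 28), (10, 29), (17, 29), (23, 29), (25, 29), (27, 29), (10, 30), (14, 30), (23, 30), (26, 30), (27, 30), (13, 31), (15, 31), (16, 31), (18, 31), (21, 31), (22, 31), (17, 32), (23, 32), (26, 32)]
/-- The steps of all cases. -/
def allSteps : List (List (Nat × Nat)) := [steps0, steps1, steps2, steps3, steps4, steps5, steps6, steps7, steps8, steps9, steps10, steps11, steps12, steps13, steps14, steps15, steps16, steps17, steps18, steps19, steps20, steps21, steps22, steps23, steps24, steps25, steps26, steps27, steps28, steps29, steps30, steps31, steps32, steps33, steps34, steps35, steps36, steps37, steps38, steps39, steps40, steps41, steps42, steps43, steps44, steps45, steps46, steps47, steps48, steps49, steps50, steps51,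 steps52, steps53, steps54, steps55, steps56, steps57, steps58, steps59, steps60, steps61, steps62, steps63]
/-- The chains of six. -/
def allChains : List (List Nat) := [[], [], [], [], [], [], [], [], [], [], [], [], [], [], [], [], [], [], [], [], [0, 1, 2, 3, 7, 4], [], [], [], [], [], [], [], [], [], [], [], [], [], [0, 1, 2, 3, 6, 4], [], [], [], [], [], [], [], [], [], [], [], [], [], [0, 1, 2, 3, 6, 4], [], [], [], [], [], [], [], [], [], [], [], [], [], [], []]

end Cfsg.Agent.ThreeTrans.SixChain
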