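import Cfsg.Agent.ThreeTrans.SixChain.Calc
import Cfsg.Agent.ThreeTrans.SixChain.Data

/-!
# Every case gives too many points or a chain of six
-/

set_option autoImplicit false
set_option maxRecDepth 100000

namespace Cfsg.Agent.ThreeTrans.SixChain

/-- The points of case `n`. -/
def points (n : ℕ) : List V6 := run (allSteps.getD n []) (seeds n)

/-- The test of case `n`. -/
def test (n : ℕ) : Bool :=
  big (points n) || (Nat.ble 16 n && chain (seeds n) (allChains.getD n []))

theorem check0 : ((List.range 16).all test) = true := by decide +kernel
theorem check1 : (((List.range 16).map (· + 16)).all test) = true := by decide +kernel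
theorem check2 : (((List.range 16).map (· + 32)).all test) = true := by decide +kernel
theorem check3 : (((List.range 16).map (· + 48)).all test) = true := by decide +kernel

theorem check_all {n : ℕ} (h : n < 64) : test n = true := by
  have h0 := List.all_eq_true.1 check0
  have h1 := List.all_eq_true.1 check1
  have h2 := List.all_eq_true.1 check2
  have h3 := List.all_eq_true.1 check3
  rcases Nat.lt_or_ge n 16 with h' | h'
  · exact h0 n (List.mem_range.2 h')
  rcases Nat.lt_or_ge n 32 with h'' | h''
  · exact h1 n (List.mem_map.2 ⟨n - 16, List.mem_range.2 (by omega), by omega⟩)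
  rcases Nat.lt_or_ge n 48 with h4 | h4
  · exact h2 n (List.mem_map.2 ⟨n - 32, List.mem_range.2 (by omega), by omega⟩)
  · exact h3 n (List.mem_map.2 ⟨n - 48, List.mem_range.2 (by omega), by omega⟩)

end Cfsg.Agent.ThreeTrans.SixChain
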