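import Cfsg.Agent.ThreeTrans.SixChain.Model
import Cfsg.Agent.ThreeTrans.SixChain.Check
import Cfsg.Agent.ThreeTrans.PairNormal

/-!
# Chains of six among the common partners in type M(22)

The common partners of two members that do not commute contain a chain of six, and do not contain a
chain of four together with two noncommuting members centralising it.
-/

set_option autoImplicit false

open Cfsg Cfsg.Agent.Classical Cfsg.Agent.Classical.Herm Module

universe u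

namespace Cfsg.Agent.ThreeTrans

open SixChain

/-- Neighbours in a chain. -/
def Adj {n : ℕ} (i j : Fin n) : Prop := i.val + 1 = j.val ∨ j.val + 1 = i.val

/-- Normalised coordinates from a chain of four and two further points. -/
theorem SixChain.frame_points {G : Type*} [Group G] {S : Set G} {F : Type} [Field F] {θ : F →+* F}
    {tp : UModel.Pt (hermB 6 θ) → G} (hB : UModel.Space (hermB 6 θ)) (hF4 : Nat.card F = 4)
    (hM : UModel.Model (hermB 6 θ) S tp) {q : Fin 4 → G} (hq : ∀ i, q i ∈ S)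
    (hqq : ∀ i j, Commute (q i) (q j) ↔ ¬ Adj i j) {u : G} (hu : u ∈ S)
    (huq : ∀ i, Commute u (q i)) {f : G} (hf : f ∈ S) (hfq : ∀ i, Commute f (q i))
    (hfu : ¬ Commute f u) :
    ∃ (k : F) (e : Fin 6 → Fin 6 → F), Frame (hermB 6 θ) k e ∧
      ∀ j : Fin 6, ∃ v : UModel.Pt (hermB 6 θ), v.1 = e j ∧
        tp v = ![q 0, q 1, q 2, q 3, u, f] j := by
  classical
  have := hB.finF
  obtain ⟨k, hk1, hk⟩ := UModel.exists_omega hB hF4
  have hk3 : k * k * k = 1 := by linear_combination (k - 1) * hk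
  have hθ := UModel.theta_cube hB hk3
  have htwo := UModel.two hB
  have hall : ∀ c : F, c = 0 ∨ c = 1 ∨ c = k ∨ c = k * k := by
    intro c
    have hk0 : k ≠ 0 := fun e => by simp [e] at hk3
    have hk2 : k * k ≠ 1 := fun e => hk1 (by linear_combination hk3 - k * e)
    have hkk : k ≠ k * k := fun e => hk1 (mul_left_cancel₀ hk0 (by rw [← e, mul_one]))
    by_contra hc
    push Not at hc
    obtain ⟨c0, c1, c2, c3⟩ := hc
    have h5 : ({c, 0, 1, k, k * k} : Finset F).card = 5 := by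
      rw [Finset.card_insert_of_notMem, Finset.card_insert_of_notMem, Finset.card_insert_of_notMem,
        Finset.card_insert_of_notMem, Finset.card_singleton]
      all_goals simp [c0, c1, c2, c3, hk0, hk0.symm, hk1, Ne.symm hk1, hk2, Ne.symm hk2, hkk,
        zero_ne_one]
    have := Fintype.ofFinite F
    have h4 := Finset.card_le_univ ({c, 0, 1, k, k * k} : Finset F)
    rw [h5, ← Nat.card_eq_fintype_card, hF4] at h4
    omega
  -- points
  have hrep : ∀ y ∈ S, ∃ v, tp v = y := fun y hy => UModel.exists_tp hM hy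
  choose pt hpt using hrep
  have hzero : ∀ {y z : G} {v w : UModel.Pt (hermB 6 θ)}, tp v = y → tp w = z →
      (hermB 6 θ v.1 w.1 = 0 ↔ Commute y z) := by
    rintro y z v w rfl rfl
    exact (hM.comm_iff v w).symm
  have hscale : ∀ (v : UModel.Pt (hermB 6 θ)) (c : F) (hc : c ≠ 0),
      ∃ v' : UModel.Pt (hermB 6 θ), v'.1 = c • v.1 ∧ tp v' = tp v := fun v c hc =>
    ⟨⟨c • v.1, smul_ne_zero hc v.2.1, by simp [v.2.2]⟩, rfl, UModel.tp_smul hB hM v _ rfl⟩
  have hnorm : ∀ (x : UModel.Pt (hermB 6 θ)) (z : G) (hz : z ∈ S), ¬ Commute (tp x) z →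
      ∃ v : UModel.Pt (hermB 6 θ), tp v = z ∧ hermB 6 θ x.1 v.1 = 1 := by
    intro x z hz hnc
    have hne : hermB 6 θ x.1 (pt z hz).1 ≠ 0 := fun e => hnc ((hzero rfl (hpt z hz)).1 e)
    obtain ⟨v, hv1, hv2⟩ := hscale (pt z hz) _ (inv_ne_zero hne)
    exact ⟨v, hv2.trans (hpt z hz), by rw [hv1, map_smul, smul_eq_mul, inv_mul_cancel₀ hne]⟩
  have hnc : ∀ i j, Adj i j → ¬ Commute (q i) (q j) := fun i j h e => (hqq i j).1 e h
  set E0 := pt (q 0) (hq 0)
  have t0 : tp E0 = q 0 := hpt _ _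
  obtain ⟨E1, t1, n1⟩ := hnorm E0 (q 1) (hq 1) (by rw [t0]; exact hnc 0 1 (Or.inl rfl))
  obtain ⟨E2, t2, n2⟩ := hnorm E1 (q 2) (hq 2) (by rw [t1]; exact hnc 1 2 (Or.inl rfl))
  obtain ⟨E3, t3, n3⟩ := hnorm E2 (q 3) (hq 3) (by rw [t2]; exact hnc 2 3 (Or.inl rfl))
  set E4 := pt u hu
  have t4 : tp E4 = u := hpt _ _
  obtain ⟨E5, t5, n5⟩ := hnorm E4 f hf (by rw [t4]; exact fun e => hfu e.symm)
  let e : Fin 6 → (Fin 6 → F) := ![E0.1, E1.1, E2.1, E3.1, E4.1, E5.1]
  have z02 := (hzero t0 t2).2 ((hqq 0 2).2 (by simp [Adj]))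
  have z03 := (hzero t0 t3).2 ((hqq 0 3).2 (by simp [Adj]))
  have z13 := (hzero t1 t3).2 ((hqq 1 3).2 (by simp [Adj]))
  have z04 := (hzero t0 t4).2 (huq 0).symm
  have z14 := (hzero t1 t4).2 (huq 1).symm
  have z24 := (hzero t2 t4).2 (huq 2).symm
  have z34 := (hzero t3 t4).2 (huq 3).symm
  have z05 := (hzero t0 t5).2 (hfq 0).symm
  have z15 := (hzero t1 t5).2 (hfq 1).symm
  have z25 := (hzero t2 t5).2 (hfq 2).symm
  have z35 := (hzero t3 t5).2 (hfq 3).symm
  have hgram : ∀ i j, hermB 6 θ (e i) (e j) = if gram i j then 1 else 0 := by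
    intro i j
    fin_cases i <;> fin_cases j <;>
      simp only [e, Fin.zero_eta, Fin.mk_one, Fin.reduceFinMk, Matrix.cons_val] <;>
      simp (decide := true) [SixChain.gram, E0.2.2, E1.2.2, E2.2.2, E3.2.2, E4.2.2, E5.2.2, n1, n2,
        n3, n5, UModel.symm_one hB n1, UModel.symm_one hB n2, UModel.symm_one hB n3,
        UModel.symm_one hB n5, z02, z03, z13, z04, z14, z24, z34, z05, z15, z25, z35,
        (UModel.symm_zero hB).1 z02, (UModel.symm_zero hB).1 z03, (UModel.symm_zero hB).1 z13,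
        (UModel.symm_zero hB).1 z04, (UModel.symm_zero hB).1 z14, (UModel.symm_zero hB).1 z24,
        (UModel.symm_zero hB).1 z34, (UModel.symm_zero hB).1 z05, (UModel.symm_zero hB).1 z15,
        (UModel.symm_zero hB).1 z25, (UModel.symm_zero hB).1 z35]
  have hFr : Frame (hermB 6 θ) k e := ⟨htwo, hk, hθ, hall, hgram⟩
  refine ⟨k, e, hFr, fun j => ?_⟩
  fin_cases j
  exacts [⟨E0, rfl, t0⟩, ⟨E1, rfl, t1⟩, ⟨E2, rfl, t2⟩, ⟨E3, rfl, t3⟩, ⟨E4, rfl, t4⟩, ⟨E5, rfl, t5⟩]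

variable {G : Type u} [Group G] [Finite G] {D : Set G}
  (hD : IsThreeTranspositionGroup D) (h22 : IsOfTypeM22 G D)
  {a b : G} (ha : a ∈ D) (hb : b ∈ D) (hab : ¬ Commute a b)
include hD h22 ha hb hab

omit [Finite G] h22 ha hb in
theorem pairPerp_subset {y : G} (hy : y ∈ pairPerp D a b) : y ∈ dperp D a :=
  ⟨hy.1, fun e => hab (e ▸ hy.2.2.symm), hy.2.1⟩

omit [Finite G] h22 ha hb hab in
theorem pairPerp_conj {x y : G} (hx : x ∈ pairPerp D a b) (hy : y ∈ pairPerp D a b) :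
    x * y * x ∈ pairPerp D a b :=
  ⟨conj_mem hD.1 hD.2.1 hx.1 hy.1, (hx.2.1.mul_right hy.2.1).mul_right hx.2.1,
    (hx.2.2.mul_right hy.2.2).mul_right hx.2.2⟩

theorem ncard_pairPerp : (pairPerp D a b).ncard = 126 := by
  have h : {v | v ∈ dperp D a ∧ Commute b v} = pairPerp D a b :=
    Set.ext fun v => ⟨fun hv => ⟨hv.1.1, hv.1.2.2, hv.2⟩,
      fun hv => ⟨pairPerp_subset hD hab hv, hv.2.2⟩⟩
  rw [← h]
  exact (m22Layer hD h22).common a ha b hb hab

/-- Two common partners on one line with a third are equal. -/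
theorem eq_of_line {q y y' : G} (hq : q ∈ pairPerp D a b) (hy : y ∈ pairPerp D a b)
    (hy' : y' ∈ pairPerp D a b) (hqy : Commute q y) (hne : y ≠ q) (hne' : y' ≠ q)
    (h : y' ∈ ln (dperp D a) q y) : y' = y := by
  by_contra hyy
  have hqa := pairPerp_subset hD hab hq
  have hya := pairPerp_subset hD hab hy
  have hyq : y ∈ dperp (dperp D a) q := ⟨hya, hne, hqy⟩
  have h1 := (m22Layer hD h22).swap a ha q hqa y hyq y' h hne' hyy
  have hay : a ∈ dperp D y := dperp_symm ha hya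
  have hqy' : q ∈ dperp (dperp D y) a := ⟨⟨hq.1, hne.symm, hqy.symm⟩, hqa.2.1, hqa.2.2⟩
  obtain ⟨hp, he⟩ := ((m22Full hD h22).data.layerLines y hy.1).pair a hay q hqy' q
    (mem_ln_right hqy'.1) y' h1 hne'.symm
  have ha' : a ∈ ln (dperp D y) q y' := he.symm ▸ mem_ln_left hay
  exact hab (ha'.2 b ⟨hb, fun e => hab (e ▸ hya.2.2), hy.2.2.symm⟩ hq.2.2 hy'.2.2).symm

/-- The coded vector is that of a member of the set. -/
def SixChain.Coded {F : Type} [Field F] {θ : F →+* F} (W : Set G)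
    (tp : UModel.Pt (hermB 6 θ) → G) (k : F) (e : Fin 6 → Fin 6 → F) (x : V6) : Prop :=
  ∃ v : UModel.Pt (hermB 6 θ), v.1 = x.val k e ∧ tp v ∈ W

/-- The common partners in given coordinates. -/
theorem coded_of {F : Type} [Field F] {θ : F →+* F} {tp : UModel.Pt (hermB 6 θ) → G}
    (hB : UModel.Space (hermB 6 θ)) (hM : UModel.Model (hermB 6 θ) (dperp D a) tp) {k : F}
    {e : Fin 6 → Fin 6 → F} (hFr : Frame (hermB 6 θ) k e) {q : Fin 4 → G}
    (hq : ∀ i, q i ∈ pairPerp D a b) {u : G} (hu : u ∈ pairPerp D a b) {f : G}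
    (hpts : ∀ j : Fin 6, ∃ v : UModel.Pt (hermB 6 θ), v.1 = e j ∧
      tp v = ![q 0, q 1, q 2, q 3, u, f] j) :
    ∃ n : ℕ, n < 64 ∧ (f ∈ pairPerp D a b → n < 16) ∧
      (∀ x ∈ seeds n, Coded (pairPerp D a b) tp k e x) ∧
      ∀ x y, Coded (pairPerp D a b) tp k e x → Coded (pairPerp D a b) tp k e y →
        Coded (pairPerp D a b) tp k e (V6.tr x y) := by
  classical
  choose E hE ht using hpts
  have hrep : ∀ y ∈ dperp D a, ∃ v, tp v = y := fun y hy => UModel.exists_tp hM hy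
  choose pt hpt using hrep
  have hzero : ∀ {y z : G} {v w : UModel.Pt (hermB 6 θ)}, tp v = y → tp w = z →
      (hermB 6 θ v.1 w.1 = 0 ↔ Commute y z) := by
    rintro y z v w rfl rfl
    exact (hM.comm_iff v w).symm
  have hscale : ∀ (v : UModel.Pt (hermB 6 θ)) (c : F) (hc : c ≠ 0),
      ∃ v' : UModel.Pt (hermB 6 θ), v'.1 = c • v.1 ∧ tp v' = tp v := fun v c hc =>
    ⟨⟨c • v.1, smul_ne_zero hc v.2.1, by simp [v.2.2]⟩, rfl, UModel.tp_smul hB hM v _ rfl⟩
  have hall := hFr.all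
  have hqa : ∀ i, q i ∈ dperp D a := fun i => pairPerp_subset hD hab (hq i)
  set E0 := E 0
  set E1 := E 1
  set E2 := E 2
  set E3 := E 3
  set E4 := E 4
  set E5 := E 5
  have t0 : tp E0 = q 0 := ht 0
  have t1 : tp E1 = q 1 := ht 1
  have t2 : tp E2 = q 2 := ht 2
  have t3 : tp E3 = q 3 := ht 3
  have t4 : tp E4 = u := ht 4
  have t5 : tp E5 = f := ht 5
  have n1 : hermB 6 θ E0.1 E1.1 = 1 := by
    show hermB 6 θ (E 0).1 (E 1).1 = 1
    rw [hE, hE, hFr.gram]; rfl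
  have hnc : ¬ Commute (q 0) (q 1) := fun h => one_ne_zero (α := F) (n1.symm.trans ((hzero t0 t1).2 h))
  -- coded points among the common partners
  let Good : V6 → Prop := Coded (pairPerp D a b) tp k e
  have hbase : ∀ (E : UModel.Pt (hermB 6 θ)) (x : V6), E.1 = x.val k e → tp E ∈ pairPerp D a b →
      Good x := fun E x h1 h2 => ⟨E, h1, h2⟩
  have hunit : V6.val k e q1 = E0.1 ∧ V6.val k e q2 = E1.1 ∧ V6.val k e q3 = E2.1 ∧
      V6.val k e q4 = E3.1 ∧ V6.val k e uu = E4.1 := by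
    simp [E0, E1, E2, E3, E4, hE, V6.val, q1, q2, q3, q4, uu, Q4.val]
  have g1 : Good q1 := hbase E0 _ hunit.1.symm (t0 ▸ hq 0)
  have g2 : Good q2 := hbase E1 _ hunit.2.1.symm (t1 ▸ hq 1)
  have g3 : Good q3 := hbase E2 _ hunit.2.2.1.symm (t2 ▸ hq 2)
  have g4 : Good q4 := hbase E3 _ hunit.2.2.2.1.symm (t3 ▸ hq 3)
  have g5 : Good uu := hbase E4 _ hunit.2.2.2.2.symm (t4 ▸ hu)
  have htr : ∀ x y, Good x → Good y → Good (V6.tr x y) := by
    rintro x y ⟨v, hv, hvW⟩ ⟨w, hw, hwW⟩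
    have hsum0 : w.1 + hermB 6 θ v.1 w.1 • v.1 ≠ 0 := by
      intro h0
      have h1 := congrArg (hermB 6 θ v.1) h0
      rw [map_add, map_smul, v.2.2, smul_zero, add_zero, map_zero] at h1
      rw [h1, zero_smul, add_zero] at h0
      exact w.2.1 h0
    have hiso : hermB 6 θ (w.1 + hermB 6 θ v.1 w.1 • v.1) (w.1 + hermB 6 θ v.1 w.1 • v.1) = 0 := by
      have hs : θ (hermB 6 θ v.1 w.1) = hermB 6 θ w.1 v.1 := hB.herm.symm _ _
      simp only [map_add, map_smul, LinearMap.map_smulₛₗ, LinearMap.add_apply, LinearMap.smul_apply,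
        smul_eq_mul, v.2.2, w.2.2, hs, mul_zero, zero_add, add_zero]
      rw [mul_comm]
      exact UModel.add_self' hB _
    refine ⟨⟨_, hsum0, hiso⟩, ?_, hM.conj v w ⟨_, hsum0, hiso⟩ rfl ▸ pairPerp_conj hD hvW hwW⟩
    show w.1 + hermB 6 θ v.1 w.1 • v.1 = _
    rw [V6.tr, V6.val_add hFr, V6.val_smul hFr, ← V6.val_form hFr, ← hv, ← hw]
  -- every residue point lifts
  have hq01 : hermB 6 θ E1.1 E0.1 = 1 := UModel.symm_one hB n1
  have hlift : ∀ X : UModel.Pt (hermB 6 θ), hermB 6 θ E0.1 X.1 = 0 → hermB 6 θ E1.1 X.1 = 0 →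
      ∃ (c : F) (v : UModel.Pt (hermB 6 θ)), v.1 = X.1 + c • E0.1 ∧ tp v ∈ pairPerp D a b := by
    set q0 := q 0
    set S := {y | y ∈ dperp D q0 ∧ Commute y a ∧ Commute y b} with hS
    have hS45 : S.ncard = 45 := (m22Layer hD h22).pair q0 (hq 0).1 a (dperp_symm ha (hqa 0))
      b ⟨hb, fun e' => hab (e'.symm ▸ (hqa 0).2.2), (hq 0).2.2.symm⟩ hab
    have hSW : ∀ y ∈ S, y ∈ pairPerp D a b := fun y hy => ⟨hy.1.1, hy.2.1.symm, hy.2.2.symm⟩
    set T := {y | y ∈ dperp D a ∧ Commute y q0 ∧ Commute y (q 1)} with hT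
    have hT45 : T.ncard = 45 :=
      (m22Layer hD h22).pair a ha q0 (hqa 0) (q 1) (hqa 1) hnc
    have hproj : ∀ y ∈ S, ∃ z : G, ∃ Y Z : UModel.Pt (hermB 6 θ), tp Y = y ∧ tp Z = z ∧
        Z.1 = Y.1 + hermB 6 θ E1.1 Y.1 • E0.1 ∧ hermB 6 θ E0.1 Y.1 = 0 ∧
        ∀ c : F, Y.1 ≠ c • E0.1 := by
      intro y hy
      set Y := pt y (pairPerp_subset hD hab (hSW y hy))
      have hY : tp Y = y := hpt _ _
      have h0 : hermB 6 θ E0.1 Y.1 = 0 := (hzero t0 hY).2 hy.1.2.2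
      have hind : ∀ c : F, Y.1 ≠ c • E0.1 := fun c hc => hy.1.2.1 (by
        rw [← hY, ← t0]; exact UModel.tp_smul hB hM E0 Y hc)
      refine ⟨_, Y, ⟨Y.1 + hermB 6 θ E1.1 Y.1 • E0.1, fun e' => hind (hermB 6 θ E1.1 Y.1) ?_, ?_⟩,
        hY, rfl, rfl, h0, hind⟩
      · calc Y.1 = (Y.1 + hermB 6 θ E1.1 Y.1 • E0.1) + hermB 6 θ E1.1 Y.1 • E0.1 := by
              rw [add_assoc, UModel.vadd_self hB, add_zero]
          _ = _ := by rw [e', zero_add]
      · simp [Y.2.2, E0.2.2, h0, (UModel.symm_zero hB).1 h0]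
    choose π Yf Zf hYf hZf hZY hY0 hYi using hproj
    let π' : G → G := fun y => if h : y ∈ S then π y h else 1
    have hmaps : π' '' S ⊆ T := by
      rintro - ⟨y, hy, rfl⟩
      simp only [π', dif_pos hy, ← hZf y hy]
      refine ⟨UModel.tp_mem hM _, ((hzero t0 rfl).1 ?_).symm, ((hzero t1 rfl).1 ?_).symm⟩
      · rw [hZY y hy]; simp [hY0 y hy, E0.2.2]
      · rw [hZY y hy]; simp [hq01, UModel.add_self' hB]
    have hinj : Set.InjOn π' S := by
      intro y hy y' hy' he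
      simp only [π', dif_pos hy, dif_pos hy', ← hZf y hy, ← hZf y' hy'] at he
      obtain ⟨c, hc⟩ := (hM.eq_iff _ _).1 he
      rw [hZY y hy, hZY y' hy'] at hc
      by_contra hne
      refine hne (eq_of_line hD h22 ha hb hab (hq 0) (hSW y hy) (hSW y' hy') hy.1.2.2 hy.1.2.1
        hy'.1.2.1 ?_).symm
      rw [← hYf y hy, ← hYf y' hy', show q 0 = tp E0 from t0.symm,
        UModel.mem_ln hB hM E0 (Yf y hy) (hY0 y hy) (hYi y hy)]
      refine ⟨c * hermB 6 θ E1.1 (Yf y hy).1 + hermB 6 θ E1.1 (Yf y' hy').1, c, ?_⟩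
      calc (Yf y' hy').1 = ((Yf y' hy').1 + hermB 6 θ E1.1 (Yf y' hy').1 • E0.1) +
            hermB 6 θ E1.1 (Yf y' hy').1 • E0.1 := by rw [add_assoc, UModel.vadd_self hB, add_zero]
        _ = _ := by rw [hc]; module
    have heq : π' '' S = T := Set.eq_of_subset_of_ncard_le hmaps
      (by rw [hinj.ncard_image, hS45, hT45]) (Set.toFinite _)
    intro X hX0 hX1
    have hXT : tp X ∈ T := ⟨UModel.tp_mem hM X, ((hzero t0 rfl).1 hX0).symm, ((hzero t1 rfl).1 hX1).symm⟩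
    rw [← heq] at hXT
    obtain ⟨y, hy, hyX⟩ := hXT
    simp only [π', dif_pos hy, ← hZf y hy] at hyX
    obtain ⟨c, hc⟩ := (hM.eq_iff _ _).1 hyX
    have hc0 : c ≠ 0 := fun e' => X.2.1 (by rw [hc, e', zero_smul])
    obtain ⟨v, hv1, hv2⟩ := hscale (Yf y hy) c hc0
    refine ⟨c * hermB 6 θ E1.1 (Yf y hy).1, v, ?_, hv2 ▸ (hYf y hy).symm ▸ hSW y hy⟩
    rw [hc, hZY y hy, hv1, smul_add, smul_smul, add_assoc, UModel.vadd_self hB, add_zero]
  have hcode : ∀ x : V6, V6.form q1 x = .o → V6.form q2 x = .o → V6.form x x = .o → x ≠ V6.zero →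
      ∃ i, i < 4 ∧ Good (x.add (V6.smul (par i) q1)) := by
    intro x h1 h2 h3 h4
    have hne : x.val k e ≠ 0 := fun e' => h4 (V6.eq_zero_of_val hFr e')
    have e1 : hermB 6 θ E0.1 (x.val k e) = 0 := by
      rw [← hunit.1, V6.val_form hFr, h1]; rfl
    have e2 : hermB 6 θ E1.1 (x.val k e) = 0 := by
      rw [← hunit.2.1, V6.val_form hFr, h2]; rfl
    obtain ⟨c, v, hv, hvW⟩ := hlift ⟨x.val k e, hne, by rw [V6.val_form hFr, h3]; rfl⟩ e1 e2
    obtain ⟨i, hi, hic⟩ : ∃ i, i < 4 ∧ Q4.val k (par i) = c := by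
      rcases hall c with rfl | rfl | rfl | rfl
      exacts [⟨0, by norm_num, rfl⟩, ⟨1, by norm_num, rfl⟩, ⟨2, by norm_num, rfl⟩, ⟨3, by norm_num, rfl⟩]
    exact ⟨i, hi, v, by rw [V6.val_add hFr, V6.val_smul hFr, hic, hunit.1, hv], hvW⟩
  obtain ⟨m, hm, gm, hm0⟩ : ∃ m, m < 4 ∧ Good ⟨par m, .o, .o, .o, .o, .i⟩ ∧
      (f ∈ pairPerp D a b → m = 0) := by
    by_cases hfW : f ∈ pairPerp D a b
    · exact ⟨0, by norm_num, hbase E5 _ (by simp [E5, hE, V6.val, par, Q4.val]) (t5 ▸ hfW), fun _ => rfl⟩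
    · obtain ⟨i, hi, gi⟩ := hcode ⟨.o, .o, .o, .o, .o, .i⟩ rfl rfl rfl (by decide)
      refine ⟨i, hi, ?_, fun h => absurd h hfW⟩
      generalize par i = p at gi ⊢
      cases p <;> exact gi
  obtain ⟨l, hl, gl⟩ := hcode ⟨.i, .o, .i, .o, .o, .i⟩ rfl rfl rfl (by decide)
  obtain ⟨l', hl', gl'⟩ := hcode ⟨.w, .o, .w, .o, .o, .i⟩ rfl rfl rfl (by decide)
  set n := 16 * m + 4 * l + l' with hn
  have hseeds : ∀ x ∈ seeds n, Good x := by
    simp only [seeds, show n / 16 = m by omega, show n / 4 % 4 = l by omega,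
      show n % 4 = l' by omega, List.mem_cons, List.not_mem_nil, or_false]
    rintro x (rfl | rfl | rfl | rfl | rfl | rfl | rfl | rfl)
    · exact g1
    · exact g2
    · exact g3
    · exact g4
    · exact g5
    · exact gm
    · generalize par l = p at gl ⊢
      cases p <;> exact gl
    · generalize par l' = p at gl' ⊢
      cases p <;> exact gl'
  exact ⟨n, by omega, fun h => by have := hm0 h; omega, hseeds, htr⟩

/-- Coordinates for the common partners from a chain of four, a partner `u` and a point `f`. -/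
theorem frame_of {q : Fin 4 → G} (hq : ∀ i, q i ∈ pairPerp D a b)
    (hqq : ∀ i j, Commute (q i) (q j) ↔ ¬ Adj i j) {u : G} (hu : u ∈ pairPerp D a b)
    (huq : ∀ i, Commute u (q i)) {f : G} (hf : f ∈ dperp D a) (hfq : ∀ i, Commute f (q i))
    (hfu : ¬ Commute f u) :
    ∃ (F : Type) (_ : Field F) (θ : F →+* F) (tp : UModel.Pt (hermB 6 θ) → G) (k : F)
      (e : Fin 6 → Fin 6 → F) (n : ℕ), UModel.Space (hermB 6 θ) ∧
      UModel.Model (hermB 6 θ) (dperp D a) tp ∧ Frame (hermB 6 θ) k e ∧ n < 64 ∧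
      (f ∈ pairPerp D a b → n < 16) ∧ (∀ x ∈ seeds n, Coded (pairPerp D a b) tp k e x) ∧
      (∀ x y, Coded (pairPerp D a b) tp k e x → Coded (pairPerp D a b) tp k e y →
        Coded (pairPerp D a b) tp k e (V6.tr x y)) ∧
      (∀ j : Fin 6, ∃ v : UModel.Pt (hermB 6 θ), v.1 = e j ∧
        tp v = ![q 0, q 1, q 2, q 3, u, f] j) := by
  obtain ⟨F, _, θ, hF4, hB, hmod⟩ := layer_model hD h22
  obtain ⟨tp, hM⟩ := hmod a ha
  obtain ⟨k, e, hFr, hpts⟩ := SixChain.frame_points hB hF4 hM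
    (fun i => pairPerp_subset hD hab (hq i)) hqq (pairPerp_subset hD hab hu) huq hf hfq hfu
  obtain ⟨n, h1, h2, h3, h4⟩ := coded_of hD h22 ha hb hab hB hM hFr hq hu hpts
  exact ⟨F, inferInstance, θ, tp, k, e, n, hB, hM, hFr, h1, h2, h3, h4, hpts⟩

omit [Finite G] hD h22 ha hb hab in
theorem SixChain.Coded.run {F : Type} [Field F] {θ : F →+* F} {W : Set G}
    {tp : UModel.Pt (hermB 6 θ) → G} {k : F} {e : Fin 6 → Fin 6 → F}
    (htr : ∀ x y, Coded W tp k e x → Coded W tp k e y → Coded W tp k e (V6.tr x y))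
    (g1 : Coded W tp k e q1) :
    ∀ (s : List (ℕ × ℕ)) (L : List V6), (∀ x ∈ L, Coded W tp k e x) →
      ∀ x ∈ SixChain.run s L, Coded W tp k e x := by
  intro s
  induction s with
  | nil => exact fun L hL => hL
  | cons p s ih =>
    intro L hL
    refine ih _ fun x hx => ?_
    have hget : ∀ i, Coded W tp k e (L.getD i q1) := fun i => by
      rw [List.getD_eq_getElem?_getD]
      rcases hi : L[i]? with _ | y
      · exact g1
      · exact hL y (List.mem_of_getElem? hi)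
    rcases List.mem_append.1 hx with hx | hx
    · exact hL x hx
    · rw [List.mem_singleton.1 hx]; exact htr _ _ (hget _) (hget _)

/-- Coded members that are independent are different. -/
theorem ncard_coded {F : Type} [Field F] {θ : F →+* F} {tp : UModel.Pt (hermB 6 θ) → G}
    (hM : UModel.Model (hermB 6 θ) (dperp D a) tp) {k : F} {e : Fin 6 → Fin 6 → F}
    (hFr : Frame (hermB 6 θ) k e) {P : List V6} (hind : indep P 0 = true)
    (hP : ∀ x ∈ P, Coded (pairPerp D a b) tp k e x) :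
    P.length ≤ 126 ∧ (126 ≤ P.length → ∀ y ∈ pairPerp D a b,
      ∃ x ∈ P, ∃ v : UModel.Pt (hermB 6 θ), v.1 = x.val k e ∧ tp v = y) := by
  classical
  rcases P.eq_nil_or_concat with rfl | ⟨P', x₀, hcon⟩
  · simp
  obtain ⟨hnz, hpair⟩ := indep_spec hind
  have : Inhabited (UModel.Pt (hermB 6 θ)) := ⟨(hP x₀ (by simp [hcon])).choose⟩
  choose! vf hvf hvW using hP
  have hnd : (P.map fun x => tp (vf x)).Nodup := by
    rw [List.Nodup, List.pairwise_map]
    refine hpair.imp_of_mem fun {x y} hx hy hxy e' => ?_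
    obtain ⟨c, hc⟩ := (hM.eq_iff _ _).1 e'
    rw [hvf x hx, hvf y hy] at hc
    obtain ⟨p, rfl, hp⟩ := V6.eq_of_val_smul hFr hc
    refine hxy p (fun e0 => (hnz y hy).1 ?_) hp
    rw [hp, e0]
    rfl
  set S : Set G := ↑(P.map fun x => tp (vf x)).toFinset
  have hsub : S ⊆ pairPerp D a b := by
    intro z hz
    simp only [S, List.coe_toFinset] at hz
    obtain ⟨x, hx, rfl⟩ := List.mem_map.1 hz
    exact hvW x hx
  have hS : S.ncard = P.length := by
    rw [Set.ncard_coe_finset, List.toFinset_card_of_nodup hnd, List.length_map]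
  have h126 := ncard_pairPerp hD h22 ha hb hab
  refine ⟨hS ▸ h126 ▸ Set.ncard_le_ncard hsub (Set.toFinite _), fun hle y hy => ?_⟩
  rw [← Set.eq_of_subset_of_ncard_le hsub (by omega) (Set.toFinite _)] at hy
  simp only [S, List.coe_toFinset] at hy
  obtain ⟨x, hx, rfl⟩ := List.mem_map.1 hy
  exact ⟨x, hx, vf x, hvf x hx, rfl⟩

/-- Only three cases occur. -/
theorem case_of {F : Type} [Field F] {θ : F →+* F} {tp : UModel.Pt (hermB 6 θ) → G}
    (hM : UModel.Model (hermB 6 θ) (dperp D a) tp) {k : F} {e : Fin 6 → Fin 6 → F}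
    (hFr : Frame (hermB 6 θ) k e) {n : ℕ} (hn : n < 64)
    (hseeds : ∀ x ∈ seeds n, Coded (pairPerp D a b) tp k e x)
    (htr : ∀ x y, Coded (pairPerp D a b) tp k e x → Coded (pairPerp D a b) tp k e y →
      Coded (pairPerp D a b) tp k e (V6.tr x y)) :
    16 ≤ n ∧ chain (seeds n) (allChains.getD n []) = true := by
  have htest := check_all hn
  simp only [test, Bool.or_eq_true, Bool.and_eq_true, Nat.ble_eq] at htest
  rcases htest with hbig | h
  · simp only [big, Bool.and_eq_true, Nat.ble_eq] at hbig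
    have := (ncard_coded hD h22 ha hb hab hM hFr hbig.2
      (Coded.run htr (hseeds _ (by simp [seeds])) _ _ hseeds)).1
    have := hbig.1
    omega
  · exact h

/-- Two chains and a partner give a chain of six. -/
theorem six_chain_of {q : Fin 4 → G} (hq : ∀ i, q i ∈ pairPerp D a b)
    (hqq : ∀ i j, Commute (q i) (q j) ↔ ¬ Adj i j) {u : G} (hu : u ∈ pairPerp D a b)
    (huq : ∀ i, Commute u (q i)) {f : G} (hf : f ∈ dperp D a) (hfq : ∀ i, Commute f (q i))
    (hfu : ¬ Commute f u) :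
    f ∉ pairPerp D a b ∧ ∃ p : Fin 6 → G, (∀ i, p i ∈ pairPerp D a b) ∧
      ∀ i j, Commute (p i) (p j) ↔ ¬ Adj i j := by
  obtain ⟨F, _, θ, tp, k, e, n, hB, hM, hFr, hn, hm0, hseeds, htr, -⟩ :=
    frame_of hD h22 ha hb hab hq hqq hu huq hf hfq hfu
  obtain ⟨h16, hchain⟩ := case_of hD h22 ha hb hab hM hFr hn hseeds htr
  simp only [chain, Bool.and_eq_true, decide_eq_true_eq, List.all_eq_true, List.mem_range] at hchain
  set C := allChains.getD n []
  obtain ⟨⟨hlen, hlt⟩, hadj⟩ := hchain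
  refine ⟨fun hfW => by have := hm0 hfW; omega, ?_⟩
  have hmem : ∀ i : Fin 6, Coded (pairPerp D a b) tp k e ((seeds n).getD (C.getD i.val 0) q1) := fun i => by
    have hi : C.getD i.val 0 ∈ C := by
      rw [List.getD_eq_getElem _ _ (by rw [hlen]; exact i.isLt)]
      exact List.getElem_mem _
    refine hseeds _ ?_
    rw [List.getD_eq_getElem _ _ (hlt _ hi)]
    exact List.getElem_mem _
  choose v hv hvW using hmem
  refine ⟨fun i => tp (v i), hvW, fun i j => ?_⟩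
  rw [hM.comm_iff, hv, hv, V6.val_form hFr]
  refine Iff.trans ⟨fun h => ?_, fun h => by rw [h]; rfl⟩ (hadj i.val i.isLt j.val j.isLt)
  exact Q4.val_eq_zero hFr h

omit ha hb hab in
/-- A four-chain in the layer of a member perpendicular to two members that do not commute. -/
theorem exists_four_in_layer {w x y : G} (hw : w ∈ D) (hx : x ∈ dperp D w) (hy : y ∈ dperp D w)
    (hxy : ¬ Commute x y) : ∃ q : Fin 4 → G, (∀ i, q i ∈ dperp D w ∧ Commute x (q i) ∧ Commute y (q i)) ∧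
      ∀ i j, Commute (q i) (q j) ↔ ¬ Adj i j := by
  obtain ⟨F, _, θ, hF4, hB, hmod⟩ := layer_model hD h22
  obtain ⟨tp, hM⟩ := hmod w hw
  obtain ⟨vx, rfl⟩ := UModel.exists_tp hM hx
  obtain ⟨vy, rfl⟩ := UModel.exists_tp hM hy
  obtain ⟨q, hq, hqq⟩ := UModel.exists_four_chain hB hF4 vx vy fun h => hxy ((hM.comm_iff _ _).2 h)
  exact ⟨fun i => tp (q i), fun i =>
    ⟨UModel.tp_mem hM _, (hM.comm_iff _ _).2 (hq i).1, (hM.comm_iff _ _).2 (hq i).2⟩,
    fun i j => (hM.comm_iff _ _).trans (hqq i j)⟩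

omit hb hab in
/-- A point of a layer centralising a chain of four that moves a member centralising the chain. -/
theorem exists_perp_point {q : Fin 4 → G} (hqd : ∀ i, q i ∈ dperp D a)
    (hqq : ∀ i j, Commute (q i) (q j) ↔ ¬ Adj i j) {u : G} (hua : u ∈ dperp D a)
    (huq : ∀ i, Commute u (q i)) : ∃ f ∈ dperp D a, (∀ i, Commute f (q i)) ∧ ¬ Commute f u := by
  obtain ⟨F, _, θ, hF4, hB, hmod⟩ := layer_model hD h22
  obtain ⟨tp, hM⟩ := hmod a ha
  obtain ⟨U, hU⟩ := UModel.exists_tp hM hua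
  choose Q hQ using fun i => UModel.exists_tp hM (hqd i)
  have := hB.fin
  have := hB.finF
  -- an isotropic vector perpendicular to the chain but not to `U`
  obtain ⟨f, hff, hfU, hfQ⟩ : ∃ f : Fin 6 → F, hermB 6 θ f f = 0 ∧ hermB 6 θ U.1 f ≠ 0 ∧
      ∀ i, hermB 6 θ (Q i).1 f = 0 := by
    obtain ⟨k, hk1, hk⟩ := UModel.exists_omega hB hF4
    have hk3 : k * k * k = 1 := by linear_combination (k - 1) * hk
    obtain ⟨g, hgg, hUg⟩ := Herm.exists_hyp_partner hB.herm U.2.1 U.2.2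
    have zU : ∀ i, hermB 6 θ U.1 (Q i).1 = 0 := fun i =>
      (hM.comm_iff _ _).1 (by rw [hU, hQ]; exact huq i)
    have zQ : ∀ i j, ¬ Adj i j → hermB 6 θ (Q i).1 (Q j).1 = 0 := fun i j h =>
      (hM.comm_iff _ _).1 (by rw [hQ, hQ]; exact (hqq i j).2 h)
    have nQ : ∀ i j, Adj i j → hermB 6 θ (Q i).1 (Q j).1 ≠ 0 := fun i j h e =>
      (hqq i j).1 (by rw [← hQ i, ← hQ j]; exact (hM.comm_iff _ _).2 e) h
    have z00 := (Q 0).2.2
    have a01 := nQ 0 1 (Or.inl rfl)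
    have a32 := nQ 3 2 (Or.inr rfl)
    have a10 := nQ 1 0 (Or.inr rfl)
    have a23 := nQ 2 3 (Or.inl rfl)
    set c1 : F := hermB 6 θ (Q 0).1 g / hermB 6 θ (Q 0).1 (Q 1).1 with hc1
    set c2 : F := hermB 6 θ (Q 3).1 g / hermB 6 θ (Q 3).1 (Q 2).1 with hc2
    set c0 : F := (hermB 6 θ (Q 1).1 g + c2 * hermB 6 θ (Q 1).1 (Q 2).1) /
      hermB 6 θ (Q 1).1 (Q 0).1 with hc0
    set c3 : F := (hermB 6 θ (Q 2).1 g + c1 * hermB 6 θ (Q 2).1 (Q 1).1) /
      hermB 6 θ (Q 2).1 (Q 3).1 with hc3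
    set f0 := g + c0 • (Q 0).1 + c1 • (Q 1).1 + c2 • (Q 2).1 + c3 • (Q 3).1 with hf0
    have hUf : hermB 6 θ U.1 f0 = 1 := by
      simp [hf0, zU, hUg]
    have hQf : ∀ i, hermB 6 θ (Q i).1 f0 = 0 := by
      have htwo := UModel.two hB
      intro i
      fin_cases i
      · simp only [hf0, map_add, map_smul, smul_eq_mul, Fin.zero_eta, (Q 0).2.2,
          zQ 0 2 (by simp [Adj]), zQ 0 3 (by simp [Adj]), mul_zero, add_zero, hc1,
          div_mul_cancel₀ _ a01]
        exact UModel.add_self' hB _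
      · simp only [hf0, map_add, map_smul, smul_eq_mul, Fin.mk_one, (Q 1).2.2,
          zQ 1 3 (by simp [Adj]), mul_zero, add_zero, hc0, div_mul_cancel₀ _ a10]
        grind
      · simp only [hf0, map_add, map_smul, smul_eq_mul, Fin.reduceFinMk, (Q 2).2.2,
          zQ 2 0 (by simp [Adj]), mul_zero, add_zero, hc3, div_mul_cancel₀ _ a23]
        grind
      · simp only [hf0, map_add, map_smul, smul_eq_mul, Fin.reduceFinMk, (Q 3).2.2,
          zQ 3 0 (by simp [Adj]), zQ 3 1 (by simp [Adj]), mul_zero, add_zero, hc2,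
          div_mul_cancel₀ _ a32]
        exact UModel.add_self' hB _
    rcases UModel.self_cases hB f0 with h | h
    · exact ⟨f0, h, by rw [hUf]; exact one_ne_zero, hQf⟩
    · refine ⟨f0 + k • U.1, ?_, by simp [hUf, U.2.2], fun i => by
        simp [hQf i, (UModel.symm_zero hB).1 (zU i)]⟩
      simp [h, U.2.2, hUf, UModel.symm_one hB hUf, UModel.theta_cube hB hk3]
      linear_combination hk
  have hf0 : f ≠ 0 := fun e => hfU (by rw [e, map_zero])
  refine ⟨tp ⟨f, hf0, hff⟩, UModel.tp_mem hM _, fun i => ?_, ?_⟩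
  · rw [← hQ i]; exact ((hM.comm_iff _ _).2 (hfQ i)).symm
  · rw [← hU]; exact fun e => hfU ((hM.comm_iff _ _).1 e.symm)

/-- A chain of four, a partner `u` centralising it and a point centralising the chain that moves `u`. -/
theorem exists_frame_seed : ∃ q : Fin 4 → G, (∀ i, q i ∈ pairPerp D a b) ∧
    (∀ i j, Commute (q i) (q j) ↔ ¬ Adj i j) ∧ ∃ u ∈ pairPerp D a b, (∀ i, Commute u (q i)) ∧
      ∃ f ∈ dperp D a, (∀ i, Commute f (q i)) ∧ ¬ Commute f u := by
  obtain ⟨u, hu⟩ := Set.nonempty_of_ncard_ne_zero (show (pairPerp D a b).ncard ≠ 0 by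
    rw [ncard_pairPerp hD h22 ha hb hab]; norm_num)
  have hua := pairPerp_subset hD hab hu
  obtain ⟨q, hq, hqq⟩ := exists_four_in_layer hD h22 hu.1 (dperp_symm ha hua)
    (show b ∈ dperp D u from ⟨hb, fun e => hab (e ▸ hua.2.2), hu.2.2.symm⟩) hab
  have hqW : ∀ i, q i ∈ pairPerp D a b := fun i => ⟨(hq i).1.1, (hq i).2.1, (hq i).2.2⟩
  exact ⟨q, hqW, hqq, u, hu, fun i => (hq i).1.2.2, exists_perp_point hD h22 ha
    (fun i => pairPerp_subset hD hab (hqW i)) hqq hua fun i => (hq i).1.2.2⟩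

/-- The common partners of two members that do not commute contain a chain of six. -/
theorem exists_six_chain : ∃ p : Fin 6 → G, (∀ i, p i ∈ pairPerp D a b) ∧
    ∀ i j, Commute (p i) (p j) ↔ ¬ Adj i j := by
  obtain ⟨q, hq, hqq, u, hu, huq, f, hf, hfq, hfu⟩ := exists_frame_seed hD h22 ha hb hab
  exact (six_chain_of hD h22 ha hb hab hq hqq hu huq hf hfq hfu).2

/-- No chain of four and two noncommuting members centralising it. -/
theorem no_four_two {q : Fin 4 → G} (hq : ∀ i, q i ∈ pairPerp D a b)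
    (hqq : ∀ i j, Commute (q i) (q j) ↔ ¬ Adj i j) {u f : G} (hu : u ∈ pairPerp D a b)
    (hf : f ∈ pairPerp D a b) (huq : ∀ i, Commute u (q i)) (hfq : ∀ i, Commute f (q i)) :
    Commute f u := by
  by_contra hfu
  exact (six_chain_of hD h22 ha hb hab hq hqq hu huq (pairPerp_subset hD hab hf) hfq hfu).1 hf

end Cfsg.Agent.ThreeTrans
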