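import Cfsg.Agent.ThreeTrans.UnitaryPrime

/-!
# Computing in a six-dimensional unitary space over four elements

Vectors are given by coordinates for a basis `q₁, q₂, q₃, q₄, u, v` in which the only nonzero
products are those of neighbours in the chain `q₁ … q₄` and of `u` and `v`.
-/

set_option autoImplicit false

open Cfsg Cfsg.Agent.Classical Cfsg.Agent.Classical.Herm Module

namespace Cfsg.Agent.ThreeTrans.SixChain

/-- The four elements `0, 1, k, k²`. -/
inductive Q4
  | o
  | i
  | w
  | z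
  deriving DecidableEq

namespace Q4

/-- Sum. -/
def add : Q4 → Q4 → Q4
  | o, x => x
  | i, o => i
  | i, i => o
  | i, w => z
  | i, z => w
  | w, o => w
  | w, i => z
  | w, w => o
  | w, z => i
  | z, o => z
  | z, i => w
  | z, w => i
  | z, z => o

/-- Product. -/
def mul : Q4 → Q4 → Q4
  | o, _ => o
  | i, x => x
  | w, o => o
  | w, i => w
  | w, w => z
  | w, z => i
  | z, o => o
  | z, i => z
  | z, w => i
  | z, z => w

/-- The nontrivial automorphism. -/
def conj : Q4 → Q4
  | o => o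
  | i => i
  | w => z
  | z => w

end Q4

/-- A coordinate vector. -/
structure V6 where
  c0 : Q4
  c1 : Q4
  c2 : Q4
  c3 : Q4
  c4 : Q4
  c5 : Q4
  deriving DecidableEq

namespace V6

/-- Sum. -/
def add (x y : V6) : V6 :=
  ⟨x.c0.add y.c0, x.c1.add y.c1, x.c2.add y.c2, x.c3.add y.c3, x.c4.add y.c4, x.c5.add y.c5⟩

/-- Multiple. -/
def smul (a : Q4) (x : V6) : V6 :=
  ⟨a.mul x.c0, a.mul x.c1, a.mul x.c2, a.mul x.c3, a.mul x.c4, a.mul x.c5⟩

/-- The form, linear in the second argument. -/
def form (x y : V6) : Q4 :=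
  ((((x.c0.conj.mul y.c1).add (x.c1.conj.mul (y.c0.add y.c2))).add
    (x.c2.conj.mul (y.c1.add y.c3))).add (x.c3.conj.mul y.c2)).add
    ((x.c4.conj.mul y.c5).add (x.c5.conj.mul y.c4))

/-- The conjugate of the point of `y` by that of `x`. -/
def tr (x y : V6) : V6 := y.add (smul (form x y) x)

/-- The zero vector. -/
def zero : V6 := ⟨.o, .o, .o, .o, .o, .o⟩

end V6

/-- `q₁`. -/
def q1 : V6 := ⟨.i, .o, .o, .o, .o, .o⟩
/-- `q₂`. -/
def q2 : V6 := ⟨.o, .i, .o, .o, .o, .o⟩
/-- `q₃`. -/
def q3 : V6 := ⟨.o, .o, .i, .o, .o, .o⟩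
/-- `q₄`. -/
def q4 : V6 := ⟨.o, .o, .o, .i, .o, .o⟩
/-- `u`. -/
def uu : V6 := ⟨.o, .o, .o, .o, .i, .o⟩

/-- The parameter of a case. -/
def par : ℕ → Q4
  | 0 => .o
  | 1 => .i
  | 2 => .w
  | _ => .z

/-- The eight points of case `n`. -/
def seeds (n : ℕ) : List V6 :=
  [q1, q2, q3, q4, uu, ⟨par (n / 16), .o, .o, .o, .o, .i⟩,
    ⟨(par (n / 4 % 4)).add .i, .o, .i, .o, .o, .i⟩,
    ⟨(par (n % 4)).add .w, .o, .w, .o, .o, .i⟩]

/-- Add the conjugates named by the steps. -/
def run : List (ℕ × ℕ) → List V6 → List V6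
  | [], l => l
  | (p, q) :: r, l => run r (l ++ [V6.tr (l.getD p q1) (l.getD q q1)])

/-- The number of a code. -/
def Q4.num : Q4 → ℕ
  | .o => 0
  | .i => 1
  | .w => 2
  | .z => 3

/-- The number of a vector. -/
def V6.num (x : V6) : ℕ :=
  ((((x.c0.num * 4 + x.c1.num) * 4 + x.c2.num) * 4 + x.c3.num) * 4 + x.c4.num) * 4 + x.c5.num

/-- Set a bit. -/
def mark (m c : ℕ) : ℕ := m ||| 2 ^ c

/-- The vectors avoid the marked numbers and are pairwise not proportional. -/
def indep : List V6 → ℕ → Bool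
  | [], _ => true
  | x :: r, m => (!(Nat.beq (V6.num x) 0)) && (!(m.testBit (V6.num x))) &&
      indep r (mark (mark (mark m (V6.num x)) (V6.num (V6.smul .w x))) (V6.num (V6.smul .z x)))

/-- No vector of the list is zero or proportional to another one, and there are more than 126. -/
def big (l : List V6) : Bool := Nat.ble 127 l.length && indep l 0

theorem mark_self (m c : ℕ) : (mark m c).testBit c = true := by
  simp [mark, Nat.testBit_two_pow_self]

theorem mark_mono {m c j : ℕ} (h : m.testBit j = true) : (mark m c).testBit j = true := by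
  simp [mark, h]

theorem indep_spec : ∀ {l : List V6} {m : ℕ}, indep l m = true →
    (∀ x ∈ l, x ≠ V6.zero ∧ m.testBit (V6.num x) = false) ∧
      l.Pairwise fun x y => ∀ b : Q4, b ≠ .o → y ≠ V6.smul b x := by
  intro l
  induction l with
  | nil => intro m _; simp
  | cons a r ih =>
    intro m h
    simp only [indep, Bool.and_eq_true, Bool.not_eq_true'] at h
    obtain ⟨⟨h0, h1⟩, h2⟩ := h
    obtain ⟨k1, k2⟩ := ih h2
    refine ⟨fun x hx => ?_, List.pairwise_cons.2 ⟨fun y hy b hb e => ?_, k2⟩⟩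
    · rcases List.mem_cons.1 hx with rfl | hx
      · exact ⟨fun e => by subst e; simp [V6.num, V6.zero, Q4.num] at h0, h1⟩
      · obtain ⟨n1, n2⟩ := k1 x hx
        refine ⟨n1, Bool.eq_false_iff.2 fun e => ?_⟩
        rw [mark_mono (mark_mono (mark_mono e))] at n2
        exact Bool.noConfusion n2
    · obtain ⟨-, n2⟩ := k1 y hy
      subst e
      cases b
      · exact hb rfl
      · rw [show V6.smul .i a = a from rfl, mark_mono (mark_mono (mark_self _ _))] at n2
        exact Bool.noConfusion n2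
      · rw [mark_mono (mark_self _ _)] at n2
        exact Bool.noConfusion n2
      · rw [mark_self] at n2
        exact Bool.noConfusion n2

/-- The vectors with the given indices form a chain of six. -/
def chain (l : List V6) (c : List ℕ) : Bool :=
  decide (c.length = 6) && (c.all fun i => decide (i < l.length)) &&
    (List.range 6).all fun i => (List.range 6).all fun j =>
      decide (V6.form (l.getD (c.getD i 0) q1) (l.getD (c.getD j 0) q1) = .o ↔ ¬ (i + 1 = j ∨ j + 1 = i))

section Eval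

variable {F V : Type*} [Field F] [AddCommGroup V] [Module F V]

/-- The field element of a code. -/
def Q4.val (k : F) : Q4 → F
  | .o => 0
  | .i => 1
  | .w => k
  | .z => k * k

/-- The vector of a code. -/
def V6.val (k : F) (e : Fin 6 → V) (x : V6) : V :=
  x.c0.val k • e 0 + x.c1.val k • e 1 + x.c2.val k • e 2 + x.c3.val k • e 3 + x.c4.val k • e 4 +
    x.c5.val k • e 5

/-- The Gram matrix of the basis. -/
def gram (i j : Fin 6) : Bool :=
  decide ((i.val + 1 = j.val ∨ j.val + 1 = i.val) ∧ (i.val ≤ 3 ↔ j.val ≤ 3))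

variable {θ : F →+* F} {B : V →ₛₗ[θ] V →ₗ[F] F}

/-- The standing hypotheses. -/
structure Frame (B : V →ₛₗ[θ] V →ₗ[F] F) (k : F) (e : Fin 6 → V) : Prop where
  two : (1 : F) + 1 = 0
  quad : k * k + k + 1 = 0
  conj : θ k = k * k
  all : ∀ a : F, a = 0 ∨ a = 1 ∨ a = k ∨ a = k * k
  gram : ∀ i j, B (e i) (e j) = if SixChain.gram i j then 1 else 0

variable {k : F} {e : Fin 6 → V} (hF : Frame B k e)
include hF

theorem Q4.val_add (x y : Q4) : (x.add y).val k = x.val k + y.val k := by
  have h1 := hF.two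
  have h2 := hF.quad
  cases x <;> cases y <;> simp only [Q4.add, Q4.val, zero_add, add_zero] <;> grind

theorem Q4.val_mul (x y : Q4) : (x.mul y).val k = x.val k * y.val k := by
  have h1 := hF.two
  have h2 := hF.quad
  cases x <;> cases y <;> simp only [Q4.mul, Q4.val, zero_mul, mul_zero, one_mul, mul_one] <;> grind

theorem Q4.val_conj (x : Q4) : x.conj.val k = θ (x.val k) := by
  have h1 := hF.two
  have h2 := hF.quad
  cases x <;> simp only [Q4.conj, Q4.val, map_zero, map_one, map_mul, hF.conj] <;> grind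

theorem Q4.val_eq_zero {x : Q4} (h : x.val k = 0) : x = .o := by
  have h1 := hF.two
  have h2 := hF.quad
  cases x <;> simp only [Q4.val] at h <;> first | rfl | (exfalso; grind)

theorem V6.val_add (x y : V6) : (x.add y).val k e = x.val k e + y.val k e := by
  simp only [V6.val, V6.add, Q4.val_add hF, add_smul]
  abel

theorem V6.val_smul (a : Q4) (x : V6) : (V6.smul a x).val k e = a.val k • x.val k e := by
  simp only [V6.val, V6.smul, Q4.val_mul hF, smul_add, smul_smul]

theorem V6.val_form (x y : V6) : B (x.val k e) (y.val k e) = (V6.form x y).val k := by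
  simp only [V6.val, V6.form, map_add, map_smul, LinearMap.map_smulₛₗ, LinearMap.add_apply,
    LinearMap.smul_apply, smul_eq_mul, hF.gram, Q4.val_add hF, Q4.val_mul hF, Q4.val_conj hF]
  simp (decide := true) only [SixChain.gram, if_true, if_false, ite_true, ite_false]
  ring

theorem V6.eq_zero_of_val {x : V6} (h : x.val k e = 0) : x = V6.zero := by
  have key : ∀ y : V6, V6.form y x = .o := fun y =>
    Q4.val_eq_zero hF (by rw [← V6.val_form hF, h, map_zero])
  have a1 := key q1
  have a2 := key q2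
  have a3 := key q3
  have a4 := key q4
  have a5 := key uu
  have a6 := key ⟨.o, .o, .o, .o, .o, .i⟩
  obtain ⟨x0, x1, x2, x3, x4, x5⟩ := x
  have ho : ∀ p : Q4, p.add .o = p := fun p => by cases p <;> rfl
  have oh : ∀ p : Q4, Q4.o.add p = p := fun p => rfl
  have io : ∀ p : Q4, Q4.i.mul p = p := fun p => rfl
  have oo : ∀ p : Q4, Q4.o.mul p = .o := fun p => rfl
  simp only [V6.form, q1, q2, q3, q4, uu, Q4.conj, ho, oh, io, oo] at a1 a2 a3 a4 a5 a6
  subst a1
  subst a4
  rw [ho] at a2
  rw [oh] at a3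
  subst a2 a3 a5 a6
  rfl

theorem V6.eq_of_val_smul {x y : V6} {a : F} (h : x.val k e = a • y.val k e) :
    ∃ b : Q4, a = b.val k ∧ x = V6.smul b y := by
  obtain ⟨b, rfl⟩ : ∃ b : Q4, a = b.val k := by
    rcases hF.all a with rfl | rfl | rfl | rfl
    exacts [⟨.o, rfl⟩, ⟨.i, rfl⟩, ⟨.w, rfl⟩, ⟨.z, rfl⟩]
  refine ⟨b, rfl, ?_⟩
  have h0 : (x.add (V6.smul b y)).val k e = 0 := by
    rw [V6.val_add hF, V6.val_smul hF, h, ← two_smul F, show (2 : F) = 0 by rw [← one_add_one_eq_two, hF.two],
      zero_smul]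
  have h1 := V6.eq_zero_of_val hF h0
  generalize V6.smul b y = z at h1
  obtain ⟨x0, x1, x2, x3, x4, x5⟩ := x
  obtain ⟨z0, z1, z2, z3, z4, z5⟩ := z
  simp only [V6.add, V6.zero, V6.mk.injEq] at h1 ⊢
  have key : ∀ p q : Q4, p.add q = .o → p = q := fun p q hpq => by
    cases p <;> cases q <;> simp_all [Q4.add]
  exact ⟨key _ _ h1.1, key _ _ h1.2.1, key _ _ h1.2.2.1, key _ _ h1.2.2.2.1, key _ _ h1.2.2.2.2.1,
    key _ _ h1.2.2.2.2.2⟩

end Eval

end Cfsg.Agent.ThreeTrans.SixChain
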