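/-!
# The common partners in the three cases, and a second chain

For each case: steps generating all 126 coded members, a normalised chain of six among them, a member
that can replace its third member, and a member in the plane of its even members.
-/

set_option autoImplicit false

namespace Cfsg.Agent.ThreeTrans.SixChain

/-- Steps. -/
def fullA20_0 : List (Nat × Nat) := [(1, 0), (2, 1), (3, 2), (5, 1), (5, 4), (6, 1), (6, 3), (6, 4), (7, 3), (7, 4), (8, 2), (8, 5), (8, 6), (9, 3), (10, 6), (10, 7), (10, 8), (11, 4), (11, 10), (12, 6), (12, 7), (12, 8), (12, 9), (13, 3), (13, 4), (14, 4), (14, 7), (14, 12), (15, 7), (15, 10), (16, 4), (16, 9), (16, 12), (16, 13), (16, 15), (17, 10), (17, 11), (17, 13), (17, 14), (18, 16), (19, 17), (20, 16), (20, 17), (21, 12), (21, 17), (22, 7), (22, 12), (22, 16), (22, 17), (23, 12), (23, 15), (24, 12), (24, 17), (25, 16), (25, 22), (25, 23), (26, 17), (27, 7), (27, 24), (28, 21)]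
/-- Steps. -/
def fullA20_1 : List (Nat × Nat) := [(28, 24), (28, 26), (29, 16), (29, 23), (30, 16), (30, 23), (31, 17), (31, 28), (32, 16), (32, 23), (33, 7), (33, 16), (33, 17), (33, 23), (33, 28), (34, 12), (34, 15), (34, 25), (34, 28), (34, 29), (34, 30), (34, 32), (35, 16), (35, 17), (36, 21), (36, 23), (36, 24), (36, 26), (36, 31), (38, 13), (38, 20), (38, 26), (38, 30), (38, 31), (38, 32), (39, 25), (39, 28), (39, 29), (39, 30), (39, 32), (39, 33), (39, 37), (40, 15), (40, 18), (41, 17), (41, 27), (41, 29), (41, 36), (42, 18), (42, 26), (42, 31), (43, 11), (44, 24), (46, 32), (47, 29), (47, 30), (47, 37), (49, 36)]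
/-- All steps of case 20. -/
def fullSteps20 : List (Nat × Nat) := fullA20_0 ++ fullA20_1
/-- Normalised chain: indices and scalars; replacement; member of the plane. -/
def second20 : List (Nat × Nat) := [(0, 1), (1, 1), (2, 1), (3, 1), (7, 3), (4, 3), (40, 1), (122, 2), (3, 3)]

/-- Steps. -/
def fullA34_0 : List (Nat × Nat) := [(1, 0), (2, 1), (3, 2), (5, 1), (5, 4), (6, 3), (6, 4), (7, 1), (7, 3), (7, 4), (8, 2), (8, 5), (8, 7), (9, 3), (10, 6), (10, 7), (10, 8), (11, 4), (11, 10), (12, 6), (12, 7), (12, 8), (12, 9), (13, 4), (13, 7), (13, 9), (13, 12), (14, 7), (14, 10), (14, 11), (15, 3), (15, 4), (15, 13), (15, 14), (16, 4), (16, 12), (16, 14), (17, 10), (17, 13), (18, 13), (19, 14), (20, 13), (20, 14), (21, 12), (21, 14), (22, 7), (22, 12), (22, 16), (22, 17), (23, 12), (23, 14), (24, 12), (24, 14), (25, 13), (25, 22), (25, 23), (26, 14), (27, 7), (27, 21), (27, 24)]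
/-- Steps. -/
def fullA34_1 : List (Nat × Nat) := [(27, 26), (28, 24), (29, 13), (29, 22), (30, 13), (30, 22), (31, 7), (31, 15), (31, 16), (31, 17), (31, 20), (31, 23), (31, 26), (31, 28), (31, 30), (32, 12), (32, 14), (32, 25), (32, 28), (32, 29), (32, 30), (33, 12), (33, 17), (33, 25), (33, 27), (33, 28), (33, 29), (33, 30), (34, 15), (34, 16), (34, 17), (34, 18), (34, 24), (35, 23), (35, 24), (35, 26), (36, 11), (36, 15), (36, 19), (36, 26), (36, 29), (37, 23), (37, 24), (38, 37), (40, 14), (40, 25), (40, 28), (40, 30), (40, 35), (41, 23), (41, 26), (43, 14), (44, 39), (46, 38), (47, 29), (47, 30), (47, 45), (49, 35)]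
/-- All steps of case 34. -/
def fullSteps34 : List (Nat × Nat) := fullA34_0 ++ fullA34_1
/-- Normalised chain: indices and scalars; replacement; member of the plane. -/
def second34 : List (Nat × Nat) := [(0, 1), (1, 1), (2, 1), (3, 1), (6, 1), (4, 1), (34, 3), (124, 2), (3, 1)]

/-- Steps. -/
def fullA48_0 : List (Nat × Nat) := [(1, 0), (2, 1), (3, 2), (5, 1), (5, 4), (6, 3), (6, 4), (7, 3), (7, 4), (8, 2), (8, 5), (9, 3), (9, 5), (10, 6), (10, 7), (10, 8), (11, 4), (11, 10), (12, 6), (12, 7), (12, 8), (12, 9), (13, 4), (13, 7), (13, 9), (13, 12), (14, 7), (14, 10), (14, 11), (15, 4), (15, 9), (15, 12), (15, 14), (16, 10), (16, 11), (16, 13), (17, 5), (17, 11), (17, 12), (17, 13), (17, 15), (18, 10), (18, 14), (18, 16), (19, 12), (19, 14), (19, 16), (19, 18), (21, 12), (21, 16), (22, 12), (22, 14), (23, 12), (23, 14), (23, 16), (24, 13), (24, 15), (24, 17), (24, 21), (24, 22)]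
/-- Steps. -/
def fullA48_1 : List (Nat × Nat) := [(24, 23), (25, 14), (25, 16), (26, 19), (26, 23), (26, 25), (27, 19), (27, 23), (27, 25), (28, 13), (28, 15), (28, 21), (28, 22), (28, 25), (29, 13), (29, 15), (29, 21), (29, 22), (29, 23), (30, 7), (30, 20), (30, 22), (30, 27), (31, 12), (31, 14), (31, 24), (31, 27), (31, 28), (32, 12), (32, 16), (32, 24), (32, 26), (32, 28), (32, 29), (33, 16), (33, 17), (34, 22), (34, 32), (35, 11), (35, 18), (35, 25), (36, 23), (36, 31), (37, 20), (37, 32), (37, 36), (38, 12), (38, 14), (38, 24), (38, 27), (38, 29), (39, 14), (40, 19), (40, 24), (40, 25), (40, 29), (41, 11), (41, 25)]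
/-- All steps of case 48. -/
def fullSteps48 : List (Nat × Nat) := fullA48_0 ++ fullA48_1
/-- Normalised chain: indices and scalars; replacement; member of the plane. -/
def second48 : List (Nat × Nat) := [(0, 1), (1, 1), (2, 1), (3, 1), (6, 1), (4, 1), (33, 2), (122, 1), (3, 3)]

/-- The steps of a case. -/
def fullSteps : Nat → List (Nat × Nat)
  | 20 => fullSteps20
  | 34 => fullSteps34
  | _ => fullSteps48

/-- The second data of a case. -/
def second : Nat → List (Nat × Nat)
  | 20 => second20
  | 34 => second34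
  | _ => second48

end Cfsg.Agent.ThreeTrans.SixChain
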