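import Cfsg.Agent.ThreeTrans.SixChain.Check
import Cfsg.Agent.ThreeTrans.SixChain.Full

/-!
# Checks on all members of the three cases
-/

set_option autoImplicit false
set_option maxRecDepth 100000

namespace Cfsg.Agent.ThreeTrans.SixChain

/-- All members of a case. -/
def full (n : ℕ) : List V6 := run (fullSteps n) (seeds n)

theorem full_ok : ∀ n ∈ [20, 34, 48], (full n).length = 126 ∧ indep (full n) 0 = true := by
  decide +kernel

theorem case_cases : ∀ n < 64, (allChains.getD n []).length = 6 → n ∈ [20, 34, 48] := by
  decide +kernel

/-- A member commutes with the point of `x`. -/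
def perpTo (x y : V6) : Bool := decide (V6.form x y = .o)

/-- Commuting with `q₁`, `q₄`, moved by `q₂`, `u`. -/
def patt1 (y : V6) : Bool := perpTo q1 y && perpTo q4 y && !perpTo q2 y && !perpTo uu y

/-- Commuting with `q₁`, `q₃`, moved by `q₄`, `u`. -/
def patt2 (y : V6) : Bool := perpTo q1 y && perpTo q3 y && !perpTo q4 y && !perpTo uu y

theorem patt_count : ∀ n ∈ [20, 34, 48],
    ((full n).filter patt1).length = 6 ∧
      ((full n).filter fun y => patt1 y && perpTo q3 y).length = 2 ∧
    ((full n).filter patt2).length = 6 ∧
      ((full n).filter fun y => patt2 y && !perpTo q2 y).length = 2 := by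
  decide +kernel

/-- The members with the second pattern moved by `q₂` of two cases are not proportional. -/
theorem patt_sep : ([20, 34, 48].all fun n => [20, 34, 48].all fun m => decide (n = m) ||
    ((full n).filter fun y => patt2 y && !perpTo q2 y).all fun y =>
      ((full m).filter fun y => patt2 y && !perpTo q2 y).all fun y' =>
        !decide (y' = y) && !decide (y' = V6.smul .w y) && !decide (y' = V6.smul .z y)) = true := by
  decide +kernel

/-- A member of the list of a case with a scalar. -/
def pick (n : ℕ) (p : ℕ × ℕ) : V6 := V6.smul (par p.2) ((full n).getD p.1 q1)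

/-- The normalised chain, the replacement and the member of the plane. -/
def secChain (n i : ℕ) : V6 := pick n ((second n).getD i (0, 1))

/-- The coefficients of the member of the plane. -/
def secA (n : ℕ) : Q4 := par ((second n).getD 8 (0, 1)).1

/-- The coefficients of the member of the plane. -/
def secB (n : ℕ) : Q4 := par ((second n).getD 8 (0, 1)).2

/-- The ratio of the second chain. -/
def secMu (n : ℕ) : Q4 := V6.form (secChain n 3) (secChain n 6)

/-- The test of the second chain. -/
def secOK (n : ℕ) : Bool :=
  ((List.range 8).all fun i => Nat.ble ((second n).getD i (0, 1)).2 3 &&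
      decide (((second n).getD i (0, 1)).1 < 126) && !decide (((second n).getD i (0, 1)).2 = 0)) &&
    ((List.range 6).all fun i => (List.range 6).all fun j =>
      decide (V6.form (secChain n i) (secChain n j) = if i + 1 = j ∨ j + 1 = i then .i else .o)) &&
    decide (V6.form (secChain n 0) (secChain n 6) = .o) &&
    decide (V6.form (secChain n 4) (secChain n 6) = .o) &&
    decide (V6.form (secChain n 5) (secChain n 6) = .o) &&
    decide (V6.form (secChain n 1) (secChain n 6) = .i) &&
    !decide (secMu n = .o) && !decide (secMu n = .i) &&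
    decide ((secA n).mul (secB n) = secMu n) &&
    decide (secChain n 7 = ((secChain n 1).add (V6.smul (secA n) (secChain n 3))).add
      (V6.smul (secB n) (secChain n 5)))

theorem sec_ok : ∀ n ∈ [20, 34, 48], secOK n = true := by decide +kernel

/-- Nonzero. -/
def nzq : List Q4 := [.i, .w, .z]

/-- The test on three points of a triangle's plane. -/
def latinB (m A B a0 b0 a1 b1 a2 b2 : Q4) : Bool :=
  !(decide (A.mul B = m) && !decide (a0 = a1) && !decide (a0 = a2) && !decide (a1 = a2) &&
    !decide (b0 = b1) && !decide (b0 = b2) && !decide (b1 = b2) &&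
    !decide (a0.mul b1 = a1.mul b0) && !decide (a0.mul b2 = a2.mul b0) &&
    !decide (a1.mul b2 = a2.mul b1)) ||
  decide ((a0 = A ∧ b0 = B) ∨ (a1 = A ∧ b1 = B) ∨ (a2 = A ∧ b2 = B)) ||
  decide ((a0 = .i ∧ b0 = .i) ∨ (a1 = .i ∧ b1 = .i) ∨ (a2 = .i ∧ b2 = .i)) ||
  decide ((a0 = m ∧ b0 = m) ∨ (a1 = m ∧ b1 = m) ∨ (a2 = m ∧ b2 = m))

/-- Three points in general position with the vertices of a triangle, one point excluded. -/
theorem latin : [Q4.w, Q4.z].all (fun m => nzq.all fun A => nzq.all fun B =>
    nzq.all fun a0 => nzq.all fun b0 => nzq.all fun a1 => nzq.all fun b1 =>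
      nzq.all fun a2 => nzq.all fun b2 => latinB m A B a0 b0 a1 b1 a2 b2) = true := by
  decide +kernel

end Cfsg.Agent.ThreeTrans.SixChain
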