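import Cfsg.Agent.ThreeTrans.SixChain.Main
import Cfsg.Agent.ThreeTrans.SixChain.FullCheck

/-!
# The common partners listed in coordinates
-/

set_option autoImplicit false

open Cfsg Cfsg.Agent.Classical Cfsg.Agent.Classical.Herm Module

universe u

namespace Cfsg.Agent.ThreeTrans

open SixChain

namespace SixChain

variable {G : Type*} [Group G] {F : Type} [Field F] {θ : F →+* F}

/-- The set consists of the members with the codes of case `n`. -/
def Listed (W : Set G) (tp : UModel.Pt (hermB 6 θ) → G) (k : F) (e : Fin 6 → Fin 6 → F) (n : ℕ) :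
    Prop :=
  (∀ x ∈ full n, Coded W tp k e x) ∧
    ∀ y ∈ W, ∃ x ∈ full n, ∃ v : UModel.Pt (hermB 6 θ), v.1 = x.val k e ∧ tp v = y

/-- The codes of the basis. -/
def unitV : Fin 6 → V6 := ![q1, q2, q3, q4, uu, ⟨.o, .o, .o, .o, .o, .i⟩]

theorem val_unitV (k : F) (e : Fin 6 → Fin 6 → F) (j : Fin 6) : (unitV j).val k e = e j := by
  fin_cases j <;> simp [unitV, V6.val, q1, q2, q3, q4, uu, Q4.val]

variable {S W : Set G} {tp : UModel.Pt (hermB 6 θ) → G} {k : F} {e : Fin 6 → Fin 6 → F} {n : ℕ}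
  (hM : UModel.Model (hermB 6 θ) S tp) (hFr : Frame (hermB 6 θ) k e)

include hM hFr

theorem comm_code {v w : UModel.Pt (hermB 6 θ)} {x y : V6} (hv : v.1 = x.val k e)
    (hw : w.1 = y.val k e) : Commute (tp v) (tp w) ↔ perpTo x y = true := by
  rw [hM.comm_iff, hv, hw, V6.val_form hFr, perpTo, decide_eq_true_eq]
  exact ⟨fun h => Q4.val_eq_zero hFr h, fun h => by rw [h]; rfl⟩

/-- Counting members of the set by their codes. -/
theorem Listed.ncard_patt (hL : Listed W tp k e n) (hind : indep (full n) 0 = true) (P : V6 → Bool)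
    (Q : G → Prop) (hPQ : ∀ x ∈ full n, ∀ v : UModel.Pt (hermB 6 θ), v.1 = x.val k e →
      (Q (tp v) ↔ P x = true)) :
    {y | y ∈ W ∧ Q y}.ncard = ((full n).filter P).length := by
  classical
  obtain ⟨hnz, hpair⟩ := indep_spec hind
  let g : V6 → G := fun x => if h : x ∈ full n then tp (hL.1 x h).choose else 1
  have hg : ∀ x (h : x ∈ full n), ∃ v : UModel.Pt (hermB 6 θ), v.1 = x.val k e ∧ g x = tp v ∧ tp v ∈ W :=
    fun x h => ⟨(hL.1 x h).choose, (hL.1 x h).choose_spec.1, dif_pos h, (hL.1 x h).choose_spec.2⟩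
  have hnd : (((full n).filter P).map g).Nodup := by
    rw [List.Nodup, List.pairwise_map]
    refine (hpair.filter _).imp_of_mem fun {x y} hx hy hxy e' => ?_
    have hx' := List.mem_of_mem_filter hx
    have hy' := List.mem_of_mem_filter hy
    obtain ⟨v, hv, hgv, -⟩ := hg x hx'
    obtain ⟨w, hw, hgw, -⟩ := hg y hy'
    rw [hgv, hgw] at e'
    obtain ⟨c, hc⟩ := (hM.eq_iff _ _).1 e'
    rw [hv, hw] at hc
    obtain ⟨p, rfl, hp⟩ := V6.eq_of_val_smul hFr hc
    refine hxy p (fun e0 => (hnz y hy').1 ?_) hp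
    rw [hp, e0]
    rfl
  have heq : {y | y ∈ W ∧ Q y} = ↑(((full n).filter P).map g).toFinset := by
    ext y
    rw [List.coe_toFinset]
    constructor
    · rintro ⟨hy, hQ⟩
      obtain ⟨x, hx, v, hv, rfl⟩ := hL.2 y hy
      refine List.mem_map.2 ⟨x, List.mem_filter.2 ⟨hx, (hPQ x hx v hv).1 hQ⟩, ?_⟩
      obtain ⟨w, hw, hgw, -⟩ := hg x hx
      rw [hgw, show v = w from Subtype.ext (hv.trans hw.symm)]
    · intro hy
      obtain ⟨x, hx, rfl⟩ := List.mem_map.1 hy
      obtain ⟨hx, hP⟩ := List.mem_filter.1 hx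
      obtain ⟨w, hw, hgw, hW⟩ := hg x hx
      rw [hgw]
      exact ⟨hW, (hPQ x hx w hw).2 hP⟩
  rw [heq, Set.ncard_coe_finset, List.toFinset_card_of_nodup hnd, List.length_map]

variable {p : Fin 6 → G} (hpts : ∀ j : Fin 6, ∃ v : UModel.Pt (hermB 6 θ), v.1 = e j ∧ tp v = p j)
include hpts

/-- Commuting with a basis point. -/
theorem comm_unit {v : UModel.Pt (hermB 6 θ)} {x : V6} (hv : v.1 = x.val k e) (j : Fin 6) :
    Commute (p j) (tp v) ↔ perpTo (unitV j) x = true := by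
  obtain ⟨w, hw, hwp⟩ := hpts j
  rw [← hwp]
  exact comm_code hM hFr (hw.trans (val_unitV k e j).symm) hv

theorem Listed.ncard_patt1 (hL : Listed W tp k e n) (hn : n ∈ [20, 34, 48]) :
    {y | y ∈ W ∧ Commute (p 0) y ∧ Commute (p 3) y ∧ ¬ Commute (p 1) y ∧ ¬ Commute (p 4) y}.ncard = 6 ∧
      {y | y ∈ W ∧ (Commute (p 0) y ∧ Commute (p 3) y ∧ ¬ Commute (p 1) y ∧ ¬ Commute (p 4) y) ∧
        Commute (p 2) y}.ncard = 2 := by
  have hind := (full_ok n hn).2
  obtain ⟨c1, c2, -⟩ := patt_count n hn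
  constructor
  · refine (hL.ncard_patt hM hFr hind patt1 _ fun x _ v hv => ?_).trans c1
    simp only [comm_unit hM hFr hpts hv, patt1, Bool.and_eq_true, Bool.not_eq_true', Bool.not_eq_true,
      and_assoc]
    rfl
  · refine (hL.ncard_patt hM hFr hind (fun y => patt1 y && perpTo q3 y) _ fun x _ v hv => ?_).trans c2
    simp only [comm_unit hM hFr hpts hv, patt1, Bool.and_eq_true, Bool.not_eq_true', Bool.not_eq_true,
      and_assoc]
    rfl

/-- A member with the second pattern moved by the second point determines the case. -/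
theorem Listed.case_eq {W' : Set G} {m : ℕ} (hL : Listed W tp k e n) (hL' : Listed W' tp k e m)
    (hn : n ∈ [20, 34, 48]) (hm : m ∈ [20, 34, 48]) {y : G} (hy : y ∈ W) (hy' : y ∈ W')
    (h0 : Commute (p 0) y) (h2 : Commute (p 2) y) (h3 : ¬ Commute (p 3) y) (h4 : ¬ Commute (p 4) y)
    (h1 : ¬ Commute (p 1) y) : W = W' := by
  obtain ⟨x, hx, v, hv, hvy⟩ := hL.2 y hy
  obtain ⟨x', hx', v', hv', hvy'⟩ := hL'.2 y hy'
  have hpatt : ∀ {x : V6} {v : UModel.Pt (hermB 6 θ)}, v.1 = x.val k e → tp v = y →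
      (patt2 x && !perpTo q2 x) = true := by
    intro x v hv hvy
    subst hvy
    simp only [comm_unit hM hFr hpts hv] at h0 h1 h2 h3 h4
    simp only [patt2, Bool.and_eq_true, Bool.not_eq_true']
    exact ⟨⟨⟨⟨h0, h2⟩, Bool.eq_false_iff.2 h3⟩, Bool.eq_false_iff.2 h4⟩, Bool.eq_false_iff.2 h1⟩
  obtain ⟨c, hc⟩ := (hM.eq_iff v v').1 (hvy.trans hvy'.symm)
  rw [hv, hv'] at hc
  obtain ⟨b, rfl, hb⟩ := V6.eq_of_val_smul hFr hc
  have hnm : n = m := by
    have h := patt_sep
    simp only [List.all_eq_true, Bool.or_eq_true, decide_eq_true_eq, Bool.and_eq_true,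
      Bool.not_eq_true', decide_eq_false_iff_not] at h
    refine (h n hn m hm).resolve_right fun hall => ?_
    obtain ⟨⟨n1, n2⟩, n3⟩ := hall x (List.mem_filter.2 ⟨hx, hpatt hv hvy⟩) x'
      (List.mem_filter.2 ⟨hx', hpatt hv' hvy'⟩)
    cases b
    · refine ((indep_spec (full_ok m hm).2).1 x' hx').1 ?_
      rw [hb]; rfl
    · exact n1 hb
    · exact n2 hb
    · exact n3 hb
  subst hnm
  apply Set.Subset.antisymm <;> intro z hz
  · obtain ⟨a, ha, w, hw, rfl⟩ := hL.2 z hz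
    obtain ⟨w', hw', hW⟩ := hL'.1 a ha
    rwa [show w = w' from Subtype.ext (hw.trans hw'.symm)]
  · obtain ⟨a, ha, w, hw, rfl⟩ := hL'.2 z hz
    obtain ⟨w', hw', hW⟩ := hL.1 a ha
    rwa [show w = w' from Subtype.ext (hw.trans hw'.symm)]

end SixChain

variable {G : Type u} [Group G] [Finite G] {D : Set G}
  (hD : IsThreeTranspositionGroup D) (h22 : IsOfTypeM22 G D)
  {a b : G} (ha : a ∈ D) (hb : b ∈ D) (hab : ¬ Commute a b)
include hD h22 ha hb hab

/-- The common partners are listed by one of three cases. -/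
theorem listed_of {F : Type} [Field F] {θ : F →+* F} {tp : UModel.Pt (hermB 6 θ) → G}
    (hB : UModel.Space (hermB 6 θ)) (hM : UModel.Model (hermB 6 θ) (dperp D a) tp) {k : F}
    {e : Fin 6 → Fin 6 → F} (hFr : Frame (hermB 6 θ) k e) {q : Fin 4 → G}
    (hq : ∀ i, q i ∈ pairPerp D a b) {u : G} (hu : u ∈ pairPerp D a b) {f : G}
    (hpts : ∀ j : Fin 6, ∃ v : UModel.Pt (hermB 6 θ), v.1 = e j ∧
      tp v = ![q 0, q 1, q 2, q 3, u, f] j) :
    ∃ n ∈ [20, 34, 48], Listed (pairPerp D a b) tp k e n := by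
  obtain ⟨n, hn, -, hseeds, htr⟩ := coded_of hD h22 ha hb hab hB hM hFr hq hu hpts
  have hc := (case_of hD h22 ha hb hab hM hFr hn hseeds htr).2
  simp only [chain, Bool.and_eq_true, decide_eq_true_eq] at hc
  have hcases := case_cases n hn hc.1.1
  have hP := Coded.run htr (hseeds _ (by simp [seeds])) (fullSteps n) _ hseeds
  exact ⟨n, hcases, hP, (ncard_coded hD h22 ha hb hab hM hFr (full_ok n hcases).2 hP).2
    (full_ok n hcases).1.ge⟩

end Cfsg.Agent.ThreeTrans
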