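import Cfsg.Agent.ThreeTrans.SixChain.Listed
import Cfsg.Agent.ThreeTrans.Y332.Layer

/-!
# Three points of the plane of the even members of a chain

Given a normalised chain `P`, a point `X` that can replace `P₂` with ratio `μ`, and a point
`P₁+αP₃+βP₅` of the set with `αβ = μ`, any three points of the plane outside the set in general
position with `P₁, P₃, P₅` contain `P₁+P₃+P₅` or `P₁+μP₃+μP₅`.
-/

set_option autoImplicit false

open Cfsg Cfsg.Agent.Classical Cfsg.Agent.Classical.Herm Module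

namespace Cfsg.Agent.ThreeTrans.SixChain

open Y332

variable {G : Type*} [Group G] {F : Type} [Field F] {θ : F →+* F} {k : F} {e : Fin 6 → Fin 6 → F}
  {S W : Set G} {tp : UModel.Pt (hermB 6 θ) → G} {P : Fin 6 → UModel.Pt (hermB 6 θ)}
  (hB : UModel.Space (hermB 6 θ)) (hM : UModel.Model (hermB 6 θ) S tp)
  (hFr : Frame (hermB 6 θ) k e) (hP : IsChain P)

include hB hP

theorem odd_comb {c1 c3 c5 : F} (h : c1 • (P 1).1 + c3 • (P 3).1 + c5 • (P 5).1 = 0) :
    c1 = 0 ∧ c3 = 0 ∧ c5 = 0 := by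
  have e0 := congrArg (hermB 6 θ (P 0).1) h
  have e2 := congrArg (hermB 6 θ (P 2).1) h
  have e4 := congrArg (hermB 6 θ (P 4).1) h
  simp [hP _ _] at e0 e2 e4
  refine ⟨e0, ?_, ?_⟩
  · simpa [e0] using e2
  · have : c3 = 0 := by simpa [e0] using e2
    simpa [this] using e4

theorem exists_coord {V : Fin 6 → F} (h1 : hermB 6 θ (P 1).1 V = 0) (h3 : hermB 6 θ (P 3).1 V = 0)
    (h5 : hermB 6 θ (P 5).1 V = 0) :
    ∃ c1 c3 c5 : F, V = c1 • (P 1).1 + c3 • (P 3).1 + c5 • (P 5).1 := by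
  refine ⟨hermB 6 θ (P 0).1 V, hermB 6 θ (P 2).1 V + hermB 6 θ (P 0).1 V,
    hermB 6 θ (P 4).1 V + (hermB 6 θ (P 2).1 V + hermB 6 θ (P 0).1 V), ext_chain hB hP fun j => ?_⟩
  have htwo := UModel.two hB
  fin_cases j <;> simp [hP _ _, h1, h3, h5] <;> grind

theorem form_comb (j : Fin 6) (α β : F) :
    hermB 6 θ (P j).1 ((P 1).1 + α • (P 3).1 + β • (P 5).1) =
      if j = 0 then 1 else if j = 2 then 1 + α else if j = 4 then α + β else 0 := by
  fin_cases j <;> simp [hP _ _]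

include hM hFr

set_option maxHeartbeats 1000000 in

/-- The odd members of the chain. -/
theorem plane_chain {X Y : UModel.Pt (hermB 6 θ)} {m A₀ B₀ : Q4}
    (x0 : hermB 6 θ (P 0).1 X.1 = 0) (x4 : hermB 6 θ (P 4).1 X.1 = 0)
    (x5 : hermB 6 θ (P 5).1 X.1 = 0) (x1 : hermB 6 θ (P 1).1 X.1 = 1)
    (x3 : hermB 6 θ (P 3).1 X.1 = m.val k) (hm0 : m ≠ .o) (hm1 : m ≠ .i) (hAB : A₀.mul B₀ = m)
    (hY : Y.1 = (P 1).1 + A₀.val k • (P 3).1 + B₀.val k • (P 5).1)
    (hPW : ∀ j, tp (P j) ∈ W) (hXW : tp X ∈ W) (hYW : tp Y ∈ W)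
    {T : Fin 3 → G} (hT : ∀ i, T i ∈ S) (hTW : ∀ i, T i ∉ W)
    (hTo : ∀ i, Commute (T i) (tp (P 1)) ∧ Commute (T i) (tp (P 3)) ∧ Commute (T i) (tp (P 5)))
    (hTl : ∀ i, T i ∉ ln S (tp (P 1)) (tp (P 3)) ∧ T i ∉ ln S (tp (P 1)) (tp (P 5)) ∧
      T i ∉ ln S (tp (P 3)) (tp (P 5)))
    (hTT : ∀ i i', i ≠ i' → T i' ∉ ln S (tp (P 1)) (T i) ∧ T i' ∉ ln S (tp (P 3)) (T i) ∧
      T i' ∉ ln S (tp (P 5)) (T i)) :
    ∃ p : Fin 6 → G, (∀ j, p j ∈ W) ∧ (∀ i j, Commute (p i) (p j) ↔ ¬ Adj i j) ∧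
      p 1 = tp (P 1) ∧ p 3 = tp (P 3) ∧ p 5 = tp (P 5) ∧
        ∃ i, ∀ j, Commute (p j) (T i) ↔ j ≠ 0 := by
  have htwo := UModel.two hB
  choose V hV using fun i => UModel.exists_tp hM (hT i)
  have hperp : ∀ i, hermB 6 θ (P 1).1 (V i).1 = 0 ∧ hermB 6 θ (P 3).1 (V i).1 = 0 ∧
      hermB 6 θ (P 5).1 (V i).1 = 0 := by
    intro i
    obtain ⟨h1, h3, h5⟩ := hTo i
    rw [← hV i, hM.comm_iff, ← UModel.symm_zero hB] at h1 h3 h5
    exact ⟨h1, h3, h5⟩
  choose c1 c3 c5 hc using fun i =>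
    exists_coord hB hP (hperp i).1 (hperp i).2.1 (hperp i).2.2
  have q13 : ∀ c : F, (P 3).1 ≠ c • (P 1).1 := fun c h => one_ne_zero (α := F) (odd_comb hB hP
    (c1 := -c) (c3 := 1) (c5 := 0) (by rw [h]; module)).2.1
  have q15 : ∀ c : F, (P 5).1 ≠ c • (P 1).1 := fun c h => one_ne_zero (α := F) (odd_comb hB hP
    (c1 := -c) (c3 := 0) (c5 := 1) (by rw [h]; module)).2.2
  have q35 : ∀ c : F, (P 5).1 ≠ c • (P 3).1 := fun c h => one_ne_zero (α := F) (odd_comb hB hP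
    (c1 := 0) (c3 := -c) (c5 := 1) (by rw [h]; module)).2.2
  have z13 : hermB 6 θ (P 1).1 (P 3).1 = 0 := by rw [hP]; rfl
  have z15 : hermB 6 θ (P 1).1 (P 5).1 = 0 := by rw [hP]; rfl
  have z35 : hermB 6 θ (P 3).1 (P 5).1 = 0 := by rw [hP]; rfl
  have hne : ∀ i, c1 i ≠ 0 ∧ c3 i ≠ 0 ∧ c5 i ≠ 0 := by
    intro i
    obtain ⟨l13, l15, l35⟩ := hTl i
    rw [← hV i, UModel.mem_ln hB hM _ _ z13 q13] at l13
    rw [← hV i, UModel.mem_ln hB hM _ _ z15 q15] at l15
    rw [← hV i, UModel.mem_ln hB hM _ _ z35 q35] at l35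
    exact ⟨fun h => l35 ⟨c3 i, c5 i, by rw [hc i, h]; simp⟩,
      fun h => l15 ⟨c1 i, c5 i, by rw [hc i, h]; simp⟩,
      fun h => l13 ⟨c1 i, c3 i, by rw [hc i, h]; simp⟩⟩
  -- two of the three and a vertex
  have hpair : ∀ i i', i ≠ i' → ∀ j : Fin 6, j = 1 ∨ j = 3 ∨ j = 5 → ∀ c c' : F,
      (V i').1 ≠ c • (P j).1 + c' • (V i).1 := by
    intro i i' hii j hj c c' h
    have hz : hermB 6 θ (P j).1 (V i).1 = 0 := by
      rcases hj with rfl | rfl | rfl
      exacts [(hperp i).1, (hperp i).2.1, (hperp i).2.2]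
    have hd : ∀ d : F, (V i).1 ≠ d • (P j).1 := by
      intro d hd
      rw [hc i] at hd
      obtain ⟨n1, n3, n5⟩ := hne i
      rcases hj with rfl | rfl | rfl
      · exact n3 (odd_comb hB hP (c1 := c1 i - d) (c3 := c3 i) (c5 := c5 i)
          (by linear_combination (norm := module) hd)).2.1
      · exact n1 (odd_comb hB hP (c1 := c1 i) (c3 := c3 i - d) (c5 := c5 i)
          (by linear_combination (norm := module) hd)).1
      · exact n1 (odd_comb hB hP (c1 := c1 i) (c3 := c3 i) (c5 := c5 i - d)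
          (by linear_combination (norm := module) hd)).1
    have hmem : tp (V i') ∈ ln S (tp (P j)) (tp (V i)) :=
      (UModel.mem_ln hB hM _ _ hz hd _).2 ⟨c, c', h⟩
    rw [hV, hV] at hmem
    obtain ⟨t1, t3, t5⟩ := hTT i i' hii
    rcases hj with rfl | rfl | rfl
    exacts [t1 hmem, t3 hmem, t5 hmem]
  have hall : ∀ x : F, x ≠ 0 → ∃ q ∈ nzq, Q4.val k q = x := by
    intro x hx
    rcases hFr.all x with rfl | rfl | rfl | rfl
    exacts [absurd rfl hx, ⟨.i, by simp [nzq], rfl⟩, ⟨.w, by simp [nzq], rfl⟩, ⟨.z, by simp [nzq], rfl⟩]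
  choose A hA hAv using fun i => hall (c3 i / c1 i) (div_ne_zero (hne i).2.1 (hne i).1)
  choose B hBm hBv using fun i => hall (c5 i / c1 i) (div_ne_zero (hne i).2.2 (hne i).1)
  have e3 : ∀ i, c3 i = c1 i * (A i).val k := fun i => by
    rw [hAv, mul_div_cancel₀ _ (hne i).1]
  have e5 : ∀ i, c5 i = c1 i * (B i).val k := fun i => by
    rw [hBv, mul_div_cancel₀ _ (hne i).1]
  have hdiff : ∀ i i', i ≠ i' → A i ≠ A i' ∧ B i ≠ B i' ∧ (A i).mul (B i') ≠ (A i').mul (B i) := by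
    intro i i' hii
    set d := c1 i' * (c1 i)⁻¹
    have hd : d * c1 i = c1 i' := by rw [mul_assoc, inv_mul_cancel₀ (hne i).1, mul_one]
    refine ⟨fun h => hpair i i' hii 5 (by simp) (c5 i' - d * c5 i) d ?_,
      fun h => hpair i i' hii 3 (by simp) (c3 i' - d * c3 i) d ?_, fun h => ?_⟩
    · have h3 : c3 i' = d * c3 i := by rw [e3 i', e3 i, ← h, ← mul_assoc, hd]
      rw [hc i', hc i, h3, ← hd]; module
    · have h5 : c5 i' = d * c5 i := by rw [e5 i', e5 i, ← h, ← mul_assoc, hd]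
      rw [hc i', hc i, h5, ← hd]; module
    · have h' := congrArg (Q4.val k) h
      rw [Q4.val_mul hFr, Q4.val_mul hFr] at h'
      set d' := c3 i' * (c3 i)⁻¹
      have hd' : d' * c3 i = c3 i' := by rw [mul_assoc, inv_mul_cancel₀ (hne i).2.1, mul_one]
      have h5 : c5 i' = d' * c5 i := by
        apply mul_left_cancel₀ (hne i).2.1
        calc c3 i * c5 i' = c1 i * c1 i' * ((A i).val k * (B i').val k) := by
              rw [e3 i, e5 i']; ring
          _ = c1 i * c1 i' * ((A i').val k * (B i).val k) := by rw [h']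
          _ = c3 i' * c5 i := by rw [e3 i', e5 i]; ring
          _ = _ := by rw [← hd']; ring
      refine hpair i i' hii 1 (by simp) (c1 i' - d' * c1 i) d' ?_
      rw [hc i', hc i, h5, ← hd']; module
  obtain ⟨hd1, hd2, hd3⟩ := hdiff 0 1 (by decide)
  obtain ⟨he1, he2, he3⟩ := hdiff 0 2 (by decide)
  obtain ⟨hf1, hf2, hf3⟩ := hdiff 1 2 (by decide)
  have hmem : ∀ q : Q4, q ≠ .o → q ∈ nzq := by intro q; cases q <;> simp [nzq]
  have hA0 : A₀ ≠ .o := fun h => hm0 (by rw [← hAB, h]; rfl)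
  have hB0 : B₀ ≠ .o := fun h => hm0 (by rw [← hAB, h]; cases A₀ <;> rfl)
  have hlat := latin
  simp only [List.all_eq_true] at hlat
  have hl := hlat m (by revert hm0 hm1; cases m <;> simp) A₀ (hmem _ hA0) B₀ (hmem _ hB0)
    (A 0) (hA 0) (B 0) (hBm 0) (A 1) (hA 1) (B 1) (hBm 1) (A 2) (hA 2) (B 2) (hBm 2)
  simp only [latinB, hAB, hd1, hd2, hd3, he1, he2, he3, hf1, hf2, hf3, decide_true, decide_false,
    Bool.not_false, Bool.and_self, Bool.not_true, Bool.false_or, Bool.or_eq_true,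
    decide_eq_true_eq] at hl
  have hvec : ∀ i, (V i).1 = c1 i •
      ((P 1).1 + (A i).val k • (P 3).1 + (B i).val k • (P 5).1) := fun i => by
    rw [hc i, e3, e5]; module
  have hcP : ∀ i j : Fin 6, Commute (tp (P i)) (tp (P j)) ↔ ¬ Adj i j := fun i j => by
    rw [hM.comm_iff, hP, Adj]
    split_ifs with h <;> simp [h]
  have hcT : ∀ (Z : UModel.Pt (hermB 6 θ)) i, Commute (tp Z) (T i) ↔
      hermB 6 θ Z.1 ((P 1).1 + (A i).val k • (P 3).1 + (B i).val k • (P 5).1) = 0 := fun Z i => by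
    rw [← hV i, hM.comm_iff, hvec, map_smul, smul_eq_mul, mul_eq_zero]
    simp [(hne i).1]
  have hgen : (∃ i, A i = A₀ ∧ B i = B₀) ∨ (∃ i, A i = .i ∧ B i = .i) ∨
      ∃ i, A i = m ∧ B i = m := by
    rcases hl with (h | h) | h <;> rcases h with h | h | h
    exacts [Or.inl ⟨_, h⟩, Or.inl ⟨_, h⟩, Or.inl ⟨_, h⟩, Or.inr (Or.inl ⟨_, h⟩),
      Or.inr (Or.inl ⟨_, h⟩), Or.inr (Or.inl ⟨_, h⟩), Or.inr (Or.inr ⟨_, h⟩),
      Or.inr (Or.inr ⟨_, h⟩), Or.inr (Or.inr ⟨_, h⟩)]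
  rcases hgen with ⟨i, hi, hi'⟩ | ⟨i, hi, hi'⟩ | ⟨i, hi, hi'⟩
  · exfalso
    refine hTW i ?_
    rw [← hV i, UModel.tp_smul hB hM Y (V i) (k := c1 i) (by rw [hvec, hi, hi', hY])]
    exact hYW
  · refine ⟨fun j => tp (P j), hPW, hcP, rfl, rfl, rfl, i, fun j => ?_⟩
    rw [hcT, hi, hi', show Q4.val k .i = 1 from rfl, one_smul, one_smul]
    show hermB 6 θ (P j).1 (k0 P) = 0 ↔ _
    rw [form_k0 hB hP]
    split_ifs with h <;> simp [h]
  · have hμ0 : m.val k ≠ 0 := fun h => hm0 (Q4.val_eq_zero hFr h)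
    have y1 : hermB 6 θ X.1 (P 1).1 = 1 := UModel.symm_one hB x1
    have y3 : hermB 6 θ X.1 (P 3).1 = θ (m.val k) := by rw [← x3, hB.herm.symm]
    have y5 : hermB 6 θ X.1 (P 5).1 = 0 := (UModel.symm_zero hB).1 x5
    have hXP : ∀ j : Fin 6, j ≠ 2 → (Commute (tp X) (tp (P j)) ↔ ¬ Adj 2 j) := by
      intro j hj
      rw [hM.comm_iff, ← UModel.symm_zero hB]
      fin_cases j
      · simp only [Fin.zero_eta]; rw [x0]; simp [Adj]
      · simp only [Fin.mk_one]; rw [x1]; simp [Adj]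
      · exact absurd rfl hj
      · simp only [Fin.reduceFinMk]; rw [x3]; simp [Adj, hμ0]
      · simp only [Fin.reduceFinMk]; rw [x4]; simp [Adj]
      · simp only [Fin.reduceFinMk]; rw [x5]; simp [Adj]
    refine ⟨fun j => if j = 2 then tp X else tp (P j), fun j => ?_, fun i' j => ?_, rfl, rfl, rfl,
      i, fun j => ?_⟩
    · by_cases hj : j = 2
      · simp only [if_pos hj]; exact hXW
      · simp only [if_neg hj]; exact hPW j
    · by_cases hi2 : i' = 2 <;> by_cases hj2 : j = 2 <;> simp only [hi2, hj2, if_true, if_false]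
      · simp [Adj, Commute.refl]
      · exact hXP j hj2
      · rw [Commute.symm_iff, hXP i' hi2]
        unfold Adj
        tauto
      · exact hcP i' j
    · by_cases hj : j = 2
      · subst hj
        simp only [if_true]
        rw [hcT, hi, hi']
        have hnorm := UModel.norm_one hB hμ0
        simp only [map_add, map_smul, smul_eq_mul, y1, y3, y5, hnorm, htwo, mul_zero, add_zero]
        simp
      · simp only [if_neg hj]
        rw [hcT, hi, hi', form_comb hB hP, if_neg hj, UModel.add_self' hB]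
        split_ifs with h0 h4
        · exact iff_of_false one_ne_zero fun h => h h0
        · exact iff_of_true rfl h0
        · exact iff_of_true rfl h0

end Cfsg.Agent.ThreeTrans.SixChain
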