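import Cfsg.Agent.ThreeTrans.SixChain.Plane

/-!
# Two chains with the same odd members

In type M(22) the common partners of two members contain three pairwise commuting members such that
any three further points of their plane, outside the common partners and in general position with
them, contain the point moved only by the first member of a chain of six through the three.
-/

set_option autoImplicit false

open Cfsg Cfsg.Agent.Classical Cfsg.Agent.Classical.Herm Module

universe u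

namespace Cfsg.Agent.ThreeTrans

open SixChain Y332

variable {G : Type u} [Group G] [Finite G] {D : Set G}
  (hD : IsThreeTranspositionGroup D) (h22 : IsOfTypeM22 G D)
  {a b : G} (ha : a ∈ D) (hb : b ∈ D) (hab : ¬ Commute a b)
include hD h22 ha hb hab

theorem second_chain : ∃ o : Fin 3 → G, (∀ l, o l ∈ pairPerp D a b) ∧
    (∀ l m, Commute (o l) (o m)) ∧ Function.Injective o ∧
    ∀ T : Fin 3 → G, (∀ i, T i ∈ dperp D a) → (∀ i, T i ∉ pairPerp D a b) →
      (∀ i l, Commute (T i) (o l)) → (∀ i l m, l ≠ m → T i ∉ ln (dperp D a) (o l) (o m)) →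
      (∀ i i' l, i ≠ i' → T i' ∉ ln (dperp D a) (o l) (T i)) →
      ∃ p : Fin 6 → G, (∀ j, p j ∈ pairPerp D a b) ∧
        (∀ i j, Commute (p i) (p j) ↔ ¬ Adj i j) ∧ p 1 = o 0 ∧ p 3 = o 1 ∧ p 5 = o 2 ∧
        ∃ i, ∀ j, Commute (p j) (T i) ↔ j ≠ 0 := by
  obtain ⟨q, hq, hqq, u, hu, huq, f, hf, hfq, hfu⟩ := exists_frame_seed hD h22 ha hb hab
  obtain ⟨F, _, θ, hF4, hB, hmod⟩ := layer_model hD h22
  obtain ⟨tp, hM⟩ := hmod a ha
  obtain ⟨k, e, hFr, hpts⟩ := frame_points hB hF4 hM (fun i => pairPerp_subset hD hab (hq i)) hqq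
    (pairPerp_subset hD hab hu) huq hf hfq hfu
  obtain ⟨n, hn, hL⟩ := listed_of hD h22 ha hb hab hB hM hFr hq hu hpts
  have hok := sec_ok n hn
  simp only [secOK, Bool.and_eq_true, List.all_eq_true, List.mem_range, Bool.not_eq_true',
    decide_eq_true_eq, decide_eq_false_iff_not] at hok
  obtain ⟨⟨⟨⟨⟨⟨⟨⟨⟨hidx, hgram⟩, h06⟩, h46⟩, h56⟩, h16⟩, hmu0⟩, hmu1⟩, hAB⟩, h7⟩ := hok
  -- the coded members
  have hcoded : ∀ i, i < 8 → ∃ v : UModel.Pt (hermB 6 θ), v.1 = (secChain n i).val k e ∧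
      tp v ∈ pairPerp D a b := by
    intro i hi
    obtain ⟨⟨hle, hlt⟩, hne⟩ := hidx i hi
    simp only [Nat.ble_eq] at hle
    set pr := (second n).getD i (0, 1) with hpr
    have hlt' : pr.1 < (full n).length := (full_ok n hn).1 ▸ hlt
    have hmem : (full n).getD pr.1 q1 ∈ full n := by
      rw [List.getD_eq_getElem _ _ hlt']; exact List.getElem_mem _
    obtain ⟨v, hv, hvW⟩ := hL.1 _ hmem
    have hs : (par pr.2).val k ≠ 0 := fun h0 => by
      have h0' := Q4.val_eq_zero hFr h0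
      obtain ht | ht | ht : pr.2 = 1 ∨ pr.2 = 2 ∨ pr.2 = 3 := by omega
      all_goals rw [ht] at h0'; simp [par] at h0'
    refine ⟨⟨(par pr.2).val k • v.1, smul_ne_zero hs v.2.1, by simp [v.2.2]⟩, ?_, ?_⟩
    · show (par pr.2).val k • v.1 = (pick n pr).val k e
      rw [pick, V6.val_smul hFr, hv]
    · rw [UModel.tp_smul hB hM v ⟨(par pr.2).val k • v.1, _⟩ rfl]; exact hvW
  choose cv hcv hcW using hcoded
  let P : Fin 6 → UModel.Pt (hermB 6 θ) := fun j => cv j.val (by omega)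
  have hP : IsChain P := fun i j => by
    show hermB 6 θ (cv _ _).1 (cv _ _).1 = _
    rw [hcv, hcv, V6.val_form hFr, hgram i.val i.isLt j.val j.isLt]
    split <;> rfl
  set X := cv 6 (by norm_num)
  have hX : ∀ (i : ℕ) (hi : i < 8) (q : Q4), V6.form (secChain n i) (secChain n 6) = q →
      hermB 6 θ (cv i hi).1 X.1 = q.val k := fun i hi q hq' => by
    rw [hcv, hcv, V6.val_form hFr, hq']
  refine ⟨fun l => tp (P (![1, 3, 5] l)), fun l => hcW _ _, fun l m => ?_, ?_,
    fun T hT hTW hTo hTl hTT => ?_⟩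
  · rw [hM.comm_iff, hP]
    fin_cases l <;> fin_cases m <;> simp
  · have hne : ∀ x y : Fin 6, (x = 1 ∧ y = 3) ∨ (x = 1 ∧ y = 5) ∨ (x = 3 ∧ y = 5) → tp (P x) ≠ tp (P y) := by
      intro x y hxy h
      obtain ⟨c, hc⟩ := (hM.eq_iff _ _).1 h
      rcases hxy with ⟨rfl, rfl⟩ | ⟨rfl, rfl⟩ | ⟨rfl, rfl⟩
      · exact one_ne_zero (α := F) (odd_comb hB hP (c1 := -c) (c3 := 1) (c5 := 0) (by rw [hc]; module)).2.1
      · exact one_ne_zero (α := F) (odd_comb hB hP (c1 := -c) (c3 := 0) (c5 := 1) (by rw [hc]; module)).2.2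
      · exact one_ne_zero (α := F) (odd_comb hB hP (c1 := 0) (c3 := -c) (c5 := 1) (by rw [hc]; module)).2.2
    intro l m h
    fin_cases l <;> fin_cases m <;>
      first
        | rfl
        | exact absurd h (hne 1 3 (by simp))
        | exact absurd h (hne 1 5 (by simp))
        | exact absurd h (hne 3 5 (by simp))
        | exact absurd h.symm (hne 1 3 (by simp))
        | exact absurd h.symm (hne 1 5 (by simp))
        | exact absurd h.symm (hne 3 5 (by simp))
  refine plane_chain hB hM hFr hP (X := X) (Y := cv 7 (by norm_num)) (m := secMu n) (A₀ := secA n)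
    (B₀ := secB n) (hX 0 _ .o h06) (hX 4 _ .o h46) (hX 5 _ .o h56) (hX 1 _ .i h16) (hX 3 _ _ rfl)
    hmu0 hmu1 hAB ?_ (fun j => hcW _ _) (hcW _ _) (hcW _ _) hT hTW
    (fun i => ⟨hTo i 0, hTo i 1, hTo i 2⟩)
    (fun i => ⟨hTl i 0 1 (by decide), hTl i 0 2 (by decide), hTl i 1 2 (by decide)⟩)
    fun i i' h => ⟨hTT i i' 0 h, hTT i i' 1 h, hTT i i' 2 h⟩
  rw [hcv, h7, V6.val_add hFr, V6.val_add hFr, V6.val_smul hFr, V6.val_smul hFr]
  show _ = (cv 1 _).1 + _ • (cv 3 _).1 + _ • (cv 5 _).1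
  rw [hcv, hcv, hcv]

end Cfsg.Agent.ThreeTrans
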